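import Cfsg.Agent.Lib.Linear.OrthTrans

/-!
# Invariant spaces of endomorphisms of an orthogonal space

A non-zero space of skew maps invariant under the Siegel elements contains every skew map, and a
commutative such space of self-adjoint maps consists of scalars.
-/

set_option autoImplicit false
set_option linter.unusedSectionVars false
set_option linter.style.haveILetI false
set_option linter.unusedSimpArgs false

namespace Cfsg.Lib.Linear.OOTensor

open Module
open scoped Matrix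
open Cfsg.Lib.Linear.Orth

variable {κ : Type} [Fintype κ] [DecidableEq κ] {F : Type*} [Field F]
  {Q : (κ → F) → F} {B : LinearMap.BilinForm F (κ → F)}

/-- Commuting nilpotent maps have a common fixed point modulo an invariant subspace. -/
theorem exists_fixed_mod {X I : Type*} [AddCommGroup X] [Module F X] [Finite I]
    (D : I → Module.End F X) (hn : ∀ i, IsNilpotent (D i)) (hc : ∀ i j, Commute (D i) (D j))
    (S₀ S : Submodule F X) (h₀ : ∀ i, ∀ x ∈ S₀, D i x ∈ S₀) (h : ∀ i, ∀ x ∈ S, D i x ∈ S)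
    (hlt : ∃ x ∈ S, x ∉ S₀) : ∃ x ∈ S, x ∉ S₀ ∧ ∀ i, D i x ∈ S₀ := by
  classical
  haveI := Fintype.ofFinite I
  suffices key : ∀ s : Finset I, ∃ x ∈ S, x ∉ S₀ ∧ ∀ i ∈ s, D i x ∈ S₀ by
    obtain ⟨x, h1, h2, h3⟩ := key Finset.univ
    exact ⟨x, h1, h2, fun i => h3 i (Finset.mem_univ i)⟩
  intro s
  induction s using Finset.induction with
  | empty =>
    obtain ⟨x, hx, hx'⟩ := hlt
    exact ⟨x, hx, hx', fun i hi => absurd hi (Finset.notMem_empty i)⟩
  | insert i s _ ih =>
    obtain ⟨x, hx, hx0, hxs⟩ := ih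
    have hex : ∃ j, (D i ^ j) x ∈ S₀ := by
      obtain ⟨j, hj⟩ := hn i
      exact ⟨j, by rw [hj, LinearMap.zero_apply]; exact S₀.zero_mem⟩
    have pres : ∀ (U : Submodule F X), (∀ y ∈ U, D i y ∈ U) → ∀ (j : ℕ) (y : X), y ∈ U →
        (D i ^ j) y ∈ U := by
      intro U hU j
      induction j with
      | zero => simp
      | succ j ihj =>
        intro y hy
        rw [pow_succ, Module.End.mul_apply]
        exact ihj _ (hU y hy)
    obtain ⟨j, hj⟩ : ∃ j, Nat.find hex = j + 1 :=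
      Nat.exists_eq_add_one.2 ((Nat.find_pos hex).2 (by simpa using hx0))
    refine ⟨(D i ^ j) x, pres S (h i) j x hx, Nat.find_min hex (by omega), fun i' hi' => ?_⟩
    rcases Finset.mem_insert.1 hi' with rfl | hi'
    · rw [← Module.End.mul_apply, ← pow_succ', ← hj]
      exact Nat.find_spec hex
    · rw [← Module.End.mul_apply, ((hc i' i).pow_right j).eq, Module.End.mul_apply]
      exact pres S₀ (h₀ i) j _ (hxs i' hi')

/-- Conjugation of endomorphisms. -/
noncomputable def cj (g : GL κ F) : Module.End F (Module.End F (κ → F)) :=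
  LinearMap.mulLeft F (Matrix.mulVecLin g.val : Module.End F (κ → F)) *
    LinearMap.mulRight F (Matrix.mulVecLin (g⁻¹ : GL κ F).val : Module.End F (κ → F))

theorem cj_apply (g : GL κ F) (X : Module.End F (κ → F)) (v : κ → F) :
    cj g X v = g.val *ᵥ X ((g⁻¹ : GL κ F).val *ᵥ v) := by
  simp [cj, Module.End.mul_apply]

theorem cj_act (g : GL κ F) (X : Module.End F (κ → F)) (v : κ → F) :
    cj g X (g.val *ᵥ v) = g.val *ᵥ X v := by rw [cj_apply, inv_act]

theorem cj_mul (g h : GL κ F) : cj (g * h) = cj g * cj h :=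
  LinearMap.ext fun X => LinearMap.ext fun v => by
    simp only [Module.End.mul_apply, cj_apply, mul_inv_rev, mul_act]

/-- The space is invariant under the Siegel elements. -/
def Inv (Q : (κ → F) → F) (B : LinearMap.BilinForm F (κ → F))
    (Φ : Submodule F (Module.End F (κ → F))) : Prop :=
  ∀ u a, Q u = 0 → B u a = 0 → ∀ X ∈ Φ, cj (sGL Q B u a) X ∈ Φ

variable (C : Space Q B)
include C

/-- Conjugation by a Siegel element is unipotent. -/
theorem cj_nilpotent {u a : κ → F} (hu : Q u = 0) (hua : B u a = 0) :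
    IsNilpotent (cj (sGL Q B u a) - 1) := by
  have hcube : ∀ b, B u b = 0 →
      IsNilpotent (Matrix.mulVecLin (sGL Q B u b).val - 1 : Module.End F (κ → F)) := fun b hb => by
    refine ⟨3, LinearMap.ext fun x => ?_⟩
    have e : ∀ y, (Matrix.mulVecLin (sGL Q B u b).val - 1 : Module.End F (κ → F)) y
        = B u y • b - (B b y + Q b * B u y) • u := fun y => by
      rw [LinearMap.sub_apply, Module.End.one_apply, Matrix.mulVecLin_apply, sGL_act C hu hb]
      abel
    simp only [pow_succ, pow_zero, one_mul, Module.End.mul_apply, e, map_sub, map_smul,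
      C.self_zero hu, hb, C.symm b u, LinearMap.zero_apply]
    simp
  have hinv : (sGL Q B u a)⁻¹ = sGL Q B u (-a) := inv_eq_of_mul_eq_one_right <| by
    rw [sGL_mul C hu hua (by rw [map_neg, hua, neg_zero]), add_neg_cancel]
    exact Orth.gl_ext fun x => by rw [sGL_act C hu (map_zero _), C.zero]; simp
  obtain ⟨i, hi⟩ := hcube a hua
  obtain ⟨j, hj⟩ := hcube (-a) (by rw [map_neg, hua, neg_zero])
  rw [← hinv] at hj
  set M : Module.End F (κ → F) := Matrix.mulVecLin (sGL Q B u a).val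
  set M' : Module.End F (κ → F) := Matrix.mulVecLin ((sGL Q B u a)⁻¹ : GL κ F).val
  have e : cj (sGL Q B u a) - 1 =
      LinearMap.mulLeft F (M - 1) * LinearMap.mulRight F M' + LinearMap.mulRight F (M' - 1) :=
    LinearMap.ext fun X => by
      show M * (X * M') - X = (M - 1) * (X * M') + X * (M' - 1)
      simp only [sub_mul, mul_sub, one_mul, mul_one]
      abel
  rw [e]
  refine Commute.isNilpotent_add ?_ ?_ ?_
  · refine LinearMap.ext fun X => ?_
    show (M - 1) * ((X * (M' - 1)) * M') = ((M - 1) * (X * M')) * (M' - 1)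
    simp only [mul_assoc, sub_mul, mul_sub, one_mul, mul_one]
  · refine Commute.isNilpotent_mul_right ?_ ⟨i, ?_⟩
    · exact LinearMap.commute_mulLeft_right _ _
    · rw [LinearMap.pow_mulLeft, hi, LinearMap.mulLeft_zero_eq_zero]
  · exact ⟨j, by rw [LinearMap.pow_mulRight, hj, LinearMap.mulRight_zero_eq_zero]⟩

/-- A fixed element for the Siegel elements of one centre. -/
theorem exists_fixed [Finite F] {Φ S₀ : Submodule F (Module.End F (κ → F))} (hΦ : Inv Q B Φ)
    (h₀ : Inv Q B S₀) (hlt : ∃ X ∈ Φ, X ∉ S₀) {u : κ → F} (hu : Q u = 0) :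
    ∃ X ∈ Φ, X ∉ S₀ ∧ ∀ a, B u a = 0 → cj (sGL Q B u a) X - X ∈ S₀ := by
  obtain ⟨X, h1, h2, h3⟩ := exists_fixed_mod (I := LinearMap.ker (B u))
    (fun a => cj (sGL Q B u a) - 1) (fun a => cj_nilpotent C hu a.2)
    (fun a b => by
      suffices h : Commute (cj (sGL Q B u (a : κ → F))) (cj (sGL Q B u (b : κ → F))) by
        refine LinearMap.ext fun X => ?_
        have hX := LinearMap.congr_fun h.eq X
        simp only [Module.End.mul_apply] at hX
        simp only [Module.End.mul_apply, LinearMap.sub_apply, Module.End.one_apply, map_sub, hX]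
        abel
      show cj _ * cj _ = cj _ * cj _
      rw [← cj_mul, ← cj_mul, sGL_mul C hu a.2 b.2, sGL_mul C hu b.2 a.2, add_comm])
    S₀ Φ (fun a x hx => S₀.sub_mem (h₀ _ _ hu a.2 x hx) hx)
    (fun a x hx => Φ.sub_mem (hΦ _ _ hu a.2 x hx) hx) hlt
  exact ⟨X, h1, h2, fun a ha => h3 ⟨a, ha⟩⟩

/-- The rotation generator of two vectors. -/
noncomputable def wdg (B : LinearMap.BilinForm F (κ → F)) :
    (κ → F) →ₗ[F] (κ → F) →ₗ[F] Module.End F (κ → F) :=
  LinearMap.mk₂ F (fun a b => (B a).smulRight b - (B b).smulRight a)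
    (fun a a' b => LinearMap.ext fun c => by simp; module)
    (fun t a b => LinearMap.ext fun c => by simp; module)
    (fun a b b' => LinearMap.ext fun c => by simp; module)
    (fun t a b => LinearMap.ext fun c => by simp; module)

omit C in
theorem wdg_apply (a b c : κ → F) : wdg B a b c = B a c • b - B b c • a := rfl

omit C in
theorem wdg_self (a : κ → F) : wdg B a a = 0 :=
  LinearMap.ext fun c => by simp [wdg_apply]

omit C in
theorem wdg_swap (a b : κ → F) : wdg B a b = -wdg B b a :=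
  LinearMap.ext fun c => by simp [wdg_apply]

theorem cj_wdg {g : GL κ F} (hg : g ∈ isometryGroup F Q) (a b : κ → F) :
    cj g (wdg B a b) = wdg B (g.val *ᵥ a) (g.val *ᵥ b) := LinearMap.ext fun c => by
  rw [cj_apply, wdg_apply, wdg_apply, Matrix.mulVec_sub, Matrix.mulVec_smul, Matrix.mulVec_smul,
    C.B_act_left hg, C.B_act_left hg]

variable (h2 : (2 : F) ≠ 0) {ν ν' : κ → F} (H : Hyp Q B ⊤ ν ν')
include h2 H

omit h2 in
theorem hyp_swap : Hyp Q B ⊤ ν' ν := ⟨trivial, trivial, H.singF, H.singE, H.pair' C⟩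

omit h2 in
theorem exists_split (x : κ → F) :
    ∃ r ∈ perp2 B ⊤ ν ν', x = B ν' x • ν + B ν x • ν' + r :=
  ⟨_, H.proj C (x := x) trivial, by abel⟩

omit h2 in
theorem perp_ne_bot (h3 : 3 ≤ Fintype.card κ) : perp2 B ⊤ ν ν' ≠ ⊥ := fun h => by
  have := H.le_finrank C
  rw [h, finrank_bot, finrank_top, finrank_fintype_fun_eq_card] at this
  omega

/-- The linear part of a Siegel element commutes with what it fixes. -/
theorem nil_comm {X : Module.End F (κ → F)} {v : κ → F} (hv : B ν v = 0) {c : F}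
    (hp : ∀ x, (sGL Q B ν v).val *ᵥ X x = X ((sGL Q B ν v).val *ᵥ x) + c • ((sGL Q B ν v).val *ᵥ x))
    (hm : ∀ x, (sGL Q B ν (-v)).val *ᵥ X x =
      X ((sGL Q B ν (-v)).val *ᵥ x) - c • ((sGL Q B ν (-v)).val *ᵥ x)) (x : κ → F) :
    B ν (X x) • v - B v (X x) • ν =
      X (B ν x • v - B v x • ν) + c • (x - (Q v * B ν x) • ν) := by
  have hv' : B ν (-v) = 0 := by rw [map_neg, hv, neg_zero]
  have e1 := hp x
  have e2 := hm x
  simp only [sGL_act C H.singE hv, sGL_act C H.singE hv', C.neg, map_add, map_sub, map_smul, map_neg,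
    LinearMap.neg_apply, smul_add, smul_sub, smul_neg] at e1 e2
  have h3 : (2 : F) • (B ν (X x) • v - B v (X x) • ν) =
      (2 : F) • (X (B ν x • v - B v x • ν) + c • (x - (Q v * B ν x) • ν)) := by
    simp only [map_sub, map_smul]
    linear_combination (norm := module) e1 - e2
  exact (smul_right_injective (κ → F) h2) h3

/-- A skew map fixed by the Siegel elements of one centre. -/
theorem fixed_wdg (h3 : 3 ≤ Fintype.card κ) {φ : Module.End F (κ → F)}
    (hs : ∀ a b, B (φ a) b = -B a (φ b))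
    (hfix : ∀ v x, B ν v = 0 → (sGL Q B ν v).val *ᵥ φ x = φ ((sGL Q B ν v).val *ᵥ x)) :
    ∃ w ∈ perp2 B ⊤ ν ν', φ = wdg B ν w := by
  have hN : ∀ v, B ν v = 0 → ∀ x,
      B ν (φ x) • v - B v (φ x) • ν = φ (B ν x • v - B v x • ν) := fun v hv x => by
    have := nil_comm C h2 H hv (X := φ) (c := 0) (fun x => by simp [hfix v x hv])
      (fun x => by simp [hfix (-v) x (by rw [map_neg, hv, neg_zero])]) x
    simpa using this
  have hWn := H.ndeg C C.ndeg_top
  obtain ⟨v₀, hv₀, hQv₀⟩ := exists_nonsing C hWn (perp_ne_bot C H h3)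
  obtain ⟨-, hν0, hν'0⟩ := mem_perp2.1 hv₀
  have hdiag : ∀ a, B a (φ a) = 0 := fun a => by
    have h1 := hs a a
    rw [C.symm (φ a) a] at h1
    exact (mul_eq_zero.1 (show (2 : F) * B a (φ a) = 0 by linear_combination h1)).resolve_left h2
  obtain ⟨r, hr, er⟩ := exists_split C H (φ ν)
  have hr0 : r = 0 := hWn r hr fun y hy => by
    obtain ⟨-, hy1, hy2⟩ := mem_perp2.1 hy
    have h1 := congrArg (B ν') (hN y hy1 ν)
    rw [hdiag, C.self_zero H.singE, C.symm y ν, hy1] at h1
    simp [H.pair' C, hy2] at h1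
    rw [er] at h1
    simpa [C.symm y ν, C.symm y ν', hy1, hy2, C.symm r y] using h1
  rw [hdiag, hr0, zero_smul, add_zero, add_zero] at er
  set c := B ν' (φ ν)
  obtain ⟨w, hw, ew⟩ := exists_split C H (φ ν')
  have hc' : B ν (φ ν') = -c := by
    have := hs ν ν'
    rw [C.symm (φ ν) ν'] at this
    linear_combination this
  rw [hdiag, zero_smul, zero_add, hc'] at ew
  obtain ⟨-, hw1, hw2⟩ := mem_perp2.1 hw
  have hW : ∀ v ∈ perp2 B ⊤ ν ν', φ v = -c • v - B v w • ν := fun v hv => by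
    obtain ⟨-, hv1, hv2⟩ := mem_perp2.1 hv
    have h1 := hN v hv1 ν'
    rw [H.pair, C.symm v ν', hv2, zero_smul, sub_zero, one_smul, hc'] at h1
    rw [← h1, ew, map_add, map_smul, C.symm v ν', hv2]
    simp
  have hc0 : c = 0 := by
    have h1 := congrArg (B ν') (hN v₀ hν0 v₀)
    rw [hν0, hW v₀ hv₀] at h1
    simp [er, C.symm v₀ ν, hν0, hν'0, H.pair' C, C.self_zero H.singE] at h1
    have h4 : (2 : F) * (c * B v₀ v₀) = 0 := by linear_combination h1
    rw [C.self] at h4
    simpa [h2, hQv₀] using h4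
  rw [hc0, zero_smul] at er
  rw [hc0, neg_zero, zero_smul, zero_add] at ew
  refine ⟨w, hw, LinearMap.ext fun x => ?_⟩
  obtain ⟨s, hs', es⟩ := exists_split C H x
  conv_lhs => rw [es, map_add, map_add, map_smul, map_smul, er, ew, hW s hs', hc0]
  have : B w x = B s w := by
    conv_lhs => rw [es]
    simp [C.symm w ν, C.symm w ν', hw1, hw2, C.symm w s]
  rw [wdg_apply, this]
  simp [sub_eq_add_neg]

/-- A skew map commuting with all Siegel elements vanishes. -/
theorem eq_zero_of_fixed (h3 : 3 ≤ Fintype.card κ) {φ : Module.End F (κ → F)}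
    (hs : ∀ a b, B (φ a) b = -B a (φ b))
    (hfix : ∀ u v x, Q u = 0 → B u v = 0 → (sGL Q B u v).val *ᵥ φ x = φ ((sGL Q B u v).val *ᵥ x)) :
    φ = 0 := by
  obtain ⟨w, hw, e⟩ := fixed_wdg C h2 H h3 hs fun v x => hfix _ v x H.singE
  obtain ⟨w', hw', e'⟩ := fixed_wdg C h2 (hyp_swap C H) h3 hs fun v x => hfix _ v x H.singF
  obtain ⟨-, hw1, hw2⟩ := mem_perp2.1 hw
  obtain ⟨-, hw1', hw2'⟩ := mem_perp2.1 hw'
  have h1 : w = 0 := by
    have h0 : φ ν' = w := by
      rw [e, wdg_apply, H.pair, C.symm w ν', hw2, one_smul, zero_smul, sub_zero]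
    rw [e', wdg_apply, C.self_zero H.singF, C.symm w' ν', hw1', zero_smul, zero_smul,
      sub_zero] at h0
    exact h0.symm
  rw [e, h1, map_zero]

/-- A non-zero invariant space of skew maps contains all skew maps. -/
theorem skew_full [Finite F] (h3 : 3 ≤ Fintype.card κ)
    (hU : 5 ≤ Fintype.card κ ∨
      ∀ a b, Q a = 0 → Q b = 0 → B a b = 0 → a ≠ 0 → b ∈ Submodule.span F {a})
    {Φ : Submodule F (Module.End F (κ → F))} (hsk : ∀ X ∈ Φ, ∀ a b, B (X a) b = -B a (X b))
    (hinv : Inv Q B Φ) (hne : ∃ X ∈ Φ, X ≠ 0) {φ : Module.End F (κ → F)}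
    (hφ : ∀ a b, B (φ a) b = -B a (φ b)) : φ ∈ Φ := by
  have h0inv : Inv Q B (⊥ : Submodule F (Module.End F (κ → F))) := fun _ _ _ _ X hX => by
    rw [(Submodule.mem_bot F).1 hX, map_zero]; exact Submodule.zero_mem _
  obtain ⟨X, hX, hX0, hfix⟩ := exists_fixed C hinv h0inv
    (hne.imp fun X h => ⟨h.1, by simpa using h.2⟩) H.singE
  obtain ⟨w₀, hw₀, rfl⟩ := fixed_wdg C h2 H h3 (hsk X hX) fun v x hv => by
    rw [← cj_act, sub_eq_zero.1 ((Submodule.mem_bot F).1 (hfix v hv))]
  have hw0 : w₀ ≠ 0 := fun e => hX0 (by rw [e, map_zero]; exact Submodule.zero_mem _)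
  have mv : ∀ {u a x y : κ → F}, Q u = 0 → B u a = 0 → wdg B x y ∈ Φ →
      wdg B ((sGL Q B u a).val *ᵥ x) ((sGL Q B u a).val *ᵥ y) ∈ Φ := fun {u a x y} hu hua h => by
    rw [← cj_wdg C (sGL_mem C hu hua)]; exact hinv u a hu hua _ h
  have half : ∀ {Y : Module.End F (κ → F)}, (2 : F) • Y ∈ Φ → Y ∈ Φ := fun h =>
    (Φ.smul_mem_iff h2).1 h
  -- the two parts of a conjugate of `ν ∧ w`
  have parts : ∀ {e f w v : κ → F}, Hyp Q B ⊤ e f → w ∈ perp2 B ⊤ e f → v ∈ perp2 B ⊤ e f →
      wdg B e w ∈ Φ → wdg B v w - B v w • wdg B e f ∈ Φ ∧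
        Q v • wdg B f w + B v w • wdg B v f ∈ Φ := by
    intro e f w v G hw hv hm
    obtain ⟨-, hw1, hw2⟩ := mem_perp2.1 hw
    obtain ⟨-, hv1, hv2⟩ := mem_perp2.1 hv
    have hfv : B f (-v) = 0 := by rw [map_neg, hv2, neg_zero]
    have a1 := mv G.singF hv2 hm
    have a2 := mv G.singF hfv hm
    simp only [sGL_act C G.singF hv2, sGL_act C G.singF hfv, C.neg, G.pair' C, hw2, C.symm v e,
      hv1, map_neg, LinearMap.neg_apply] at a1 a2
    simp only [map_add, map_sub, map_smul, map_neg, LinearMap.add_apply, LinearMap.sub_apply,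
      LinearMap.smul_apply, LinearMap.neg_apply, wdg_self] at a1 a2
    refine ⟨half ?_, half ?_⟩
    · convert Φ.sub_mem a1 a2 using 1
      module
    · convert Φ.sub_mem (Φ.smul_mem (2 : F) hm) (Φ.add_mem a1 a2) using 1
      module
  have key : ∀ {e f w : κ → F}, Hyp Q B ⊤ e f → w ∈ perp2 B ⊤ e f → Q w ≠ 0 → wdg B e w ∈ Φ →
      wdg B e f ∈ Φ := fun {e f w} G hw hQw hm => by
    have h1 := (parts G hw hw hm).1
    rw [wdg_self, zero_sub, Φ.neg_mem_iff, C.self] at h1
    exact (Φ.smul_mem_iff (mul_ne_zero h2 hQw)).1 h1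
  have hWn := H.ndeg C C.ndeg_top
  have hW : wdg B ν ν' ∈ Φ := by
    by_cases hQw : Q w₀ = 0
    swap
    · exact key H hw₀ hQw hX
    obtain ⟨-, hw1, hw2⟩ := mem_perp2.1 hw₀
    rcases hU with h5 | hU
    swap
    · obtain ⟨t, rfl⟩ := Submodule.mem_span_singleton.1
        (hU ν w₀ H.singE hQw hw1 fun e => by simpa [e] using H.pair)
      rw [map_smul, C.symm ν' ν, H.pair, smul_eq_mul, mul_one] at hw2
      exact absurd (by rw [hw2, zero_smul]) hw0
    obtain ⟨u, G⟩ := exists_hyp C hWn hw₀ hw0 hQw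
    have hne' : perp2 B (perp2 B ⊤ ν ν') w₀ u ≠ ⊥ := fun h => by
      have h4 := G.le_finrank C
      have h5' := H.le_finrank C
      rw [h, finrank_bot] at h4
      rw [finrank_top, finrank_fintype_fun_eq_card] at h5'
      omega
    obtain ⟨z, hz, hQz⟩ := exists_nonsing C (G.ndeg C hWn) hne'
    obtain ⟨hzW, hwz, huz⟩ := mem_perp2.1 hz
    have g1 := (parts H hw₀ G.memF hX).2
    have g2 := (parts H hw₀ (add_mem G.memF hzW) hX).2
    have g3 := (parts H hw₀ (sub_mem G.memF hzW) hX).2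
    rw [G.singF, C.symm u w₀, G.pair] at g1
    rw [sub_eq_add_neg u z, C.add, C.neg, map_neg, huz, G.singF] at g3
    rw [C.add, huz, G.singF] at g2
    simp only [map_add, map_neg, LinearMap.add_apply, LinearMap.neg_apply, C.symm u w₀, G.pair,
      C.symm z w₀, hwz] at g1 g2 g3
    have h1 : wdg B z ν' ∈ Φ := half (by convert Φ.sub_mem g2 g3 using 1; module)
    obtain ⟨-, hz1, hz2⟩ := mem_perp2.1 hzW
    rw [wdg_swap, Φ.neg_mem_iff]
    exact key (hyp_swap C H) (mem_perp2.2 ⟨trivial, hz2, hz1⟩) hQz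
      (by rw [wdg_swap, Φ.neg_mem_iff]; exact h1)
  have hL : ∀ v ∈ perp2 B ⊤ ν ν', wdg B ν v ∈ Φ ∧ wdg B v ν' ∈ Φ := fun v hv => by
    obtain ⟨-, hv1, hv2⟩ := mem_perp2.1 hv
    have a1 := mv H.singE hv1 hW
    have a2 := mv H.singF hv2 hW
    simp only [sGL_act C H.singE hv1, sGL_act C H.singF hv2, H.pair, H.pair' C, C.self_zero H.singE,
      C.self_zero H.singF, C.symm v ν, C.symm v ν', hv1, hv2] at a1 a2
    simp only [map_add, map_sub, map_smul, LinearMap.add_apply, LinearMap.sub_apply,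
      LinearMap.smul_apply, wdg_self, map_zero, LinearMap.zero_apply] at a1 a2
    constructor
    · convert Φ.sub_mem a1 hW using 1; module
    · convert Φ.sub_mem a2 hW using 1; module
  have hWW : ∀ v ∈ perp2 B ⊤ ν ν', ∀ w ∈ perp2 B ⊤ ν ν', wdg B v w ∈ Φ := fun v hv w hw => by
    have h1 := Φ.add_mem (parts H hw hv (hL w hw).1).1 (Φ.smul_mem (B v w) hW)
    rwa [sub_add_cancel] at h1
  have hall : ∀ a b, wdg B a b ∈ Φ := fun a b => by
    obtain ⟨r, hr, ea⟩ := exists_split C H a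
    obtain ⟨s, hs, eb⟩ := exists_split C H b
    have hrν : wdg B r ν ∈ Φ := by rw [wdg_swap, Φ.neg_mem_iff]; exact (hL r hr).1
    have hν's : wdg B ν' s ∈ Φ := by rw [wdg_swap, Φ.neg_mem_iff]; exact (hL s hs).2
    have hν'ν : wdg B ν' ν ∈ Φ := by rw [wdg_swap, Φ.neg_mem_iff]; exact hW
    rw [ea, eb]
    simp only [map_add, map_smul, LinearMap.add_apply, LinearMap.smul_apply, wdg_self, smul_zero,
      zero_add, add_zero]
    repeat' first | apply Φ.add_mem | apply Φ.smul_mem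
    all_goals first
      | exact hW | exact hν'ν | exact (hL s hs).1 | exact (hL r hr).2 | exact hrν | exact hν's
      | exact hWW r hr s hs
  refine half ?_
  let N : B.Nondegenerate := ⟨fun x h => C.nondeg' h, fun x h => C.nondeg x h⟩
  let d : κ → κ → F := fun i => (B.toDual N).symm (LinearMap.proj i)
  have hd : ∀ i x, B (d i) x = x i := fun i x => by
    simp [d, LinearMap.BilinForm.apply_toDual_symm_apply]
  have e : (2 : F) • φ = ∑ i, wdg B (d i) (φ (Pi.single i 1)) := LinearMap.ext fun x => by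
    have e1 : φ x = ∑ i, x i • φ (Pi.single i 1) := by
      conv_lhs => rw [pi_eq_sum_univ' x, map_sum]
      simp only [map_smul]
    have e2 : φ x = -∑ i, B (φ (Pi.single i 1)) x • d i := by
      refine sub_eq_zero.1 (C.nondeg' fun y => ?_)
      rw [map_sub, LinearMap.sub_apply, map_neg, map_sum, LinearMap.neg_apply, LinearMap.sum_apply,
        hφ, pi_eq_sum_univ' y]
      simp only [map_smul, LinearMap.smul_apply, hd, map_sum, smul_eq_mul, C.symm _ x]
      simp [Pi.single_apply, mul_comm]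
    rw [LinearMap.smul_apply, LinearMap.sum_apply]
    simp only [wdg_apply, hd, Finset.sum_sub_distrib, ← e1]
    rw [sub_eq_add_neg, ← e2, two_smul]
  rw [e]
  exact Φ.sum_mem fun i _ => hall _ _

/-- A self-adjoint map fixed by the Siegel elements of one centre modulo scalars. -/
theorem fixed_sym (h3 : 3 ≤ Fintype.card κ)
    (hq : 4 ≤ Fintype.card κ ∨ ∃ s : F, s ≠ 0 ∧ s * s ≠ 1) {X : Module.End F (κ → F)}
    (hsa : ∀ a b, B (X a) b = B a (X b))
    (hfix : ∀ a, B ν a = 0 →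
      cj (sGL Q B ν a) X - X ∈ Submodule.span F {(1 : Module.End F (κ → F))}) :
    ∃ e g : F, X = e • (1 : Module.End F (κ → F)) + g • (B ν).smulRight ν := by
  have hWn := H.ndeg C C.ndeg_top
  obtain ⟨v₀, hv₀, hQv₀⟩ := exists_nonsing C hWn (perp_ne_bot C H h3)
  set y := X ν with hy
  have hfix' : ∀ v ∈ perp2 B ⊤ ν ν', ∃ c : F, ∀ x,
      (sGL Q B ν v).val *ᵥ X x = X ((sGL Q B ν v).val *ᵥ x) + c • ((sGL Q B ν v).val *ᵥ x) :=
    fun v hv => by
      obtain ⟨c, hc⟩ := Submodule.mem_span_singleton.1 (hfix v (mem_perp2.1 hv).2.1)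
      refine ⟨c, fun x => ?_⟩
      have h1 := LinearMap.congr_fun hc ((sGL Q B ν v).val *ᵥ x)
      rw [LinearMap.sub_apply, cj_act, LinearMap.smul_apply, Module.End.one_apply] at h1
      rw [h1]; abel
  have hy0 : B ν y = 0 := by
    obtain ⟨c, hc⟩ := hfix' v₀ hv₀
    obtain ⟨-, a1, a2⟩ := mem_perp2.1 hv₀
    have h1 := congrArg (B v₀) (hc ν)
    rw [← hy] at h1
    simp [sGL_act C H.singE a1, C.self_zero H.singE, C.symm v₀ ν, a1, ← hy] at h1
    rw [C.self] at h1
    simpa [h2, hQv₀] using h1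
  -- the scalar is linear in the parameter
  have hform : ∀ v ∈ perp2 B ⊤ ν ν', ∀ x,
      (sGL Q B ν v).val *ᵥ X x = X ((sGL Q B ν v).val *ᵥ x) + (-B v y) • ((sGL Q B ν v).val *ᵥ x) :=
    fun v hv => by
      obtain ⟨c, hc⟩ := hfix' v hv
      obtain ⟨-, a1, a2⟩ := mem_perp2.1 hv
      suffices c = -B v y by rwa [this] at hc
      have h1 := congrArg (B ν') (hc ν)
      rw [← hy] at h1
      simp [sGL_act C H.singE a1, C.self_zero H.singE, C.symm v ν, a1, ← hy, hy0, H.pair' C] at h1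
      linear_combination -h1
  have hN : ∀ v ∈ perp2 B ⊤ ν ν', ∀ x, B ν (X x) • v - B v (X x) • ν =
      X (B ν x • v - B v x • ν) + (-B v y) • (x - (Q v * B ν x) • ν) := fun v hv x =>
    nil_comm C h2 H (mem_perp2.1 hv).2.1 (hform v hv) (fun z => by
      rw [hform (-v) (neg_mem hv) z, map_neg, LinearMap.neg_apply, neg_neg]
      module) x
  obtain ⟨w₁, hw₁, ey⟩ := exists_split C H y
  rw [hy0, zero_smul, add_zero] at ey
  obtain ⟨-, hw11, hw12⟩ := mem_perp2.1 hw₁
  have hvy : ∀ v ∈ perp2 B ⊤ ν ν', B v y = B v w₁ := fun v hv => by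
    obtain ⟨-, a1, a2⟩ := mem_perp2.1 hv
    conv_lhs => rw [ey]
    simp [C.symm v ν, a1]
  have hquad : ∀ v ∈ perp2 B ⊤ ν ν', (2 * B v w₁) • v + B v v • w₁ = 0 := fun v hv => by
    refine hWn _ (add_mem (Submodule.smul_mem _ _ hv) (Submodule.smul_mem _ _ hw₁)) fun w hw => ?_
    obtain ⟨-, a1, a2⟩ := mem_perp2.1 hv
    obtain ⟨-, b1, b2⟩ := mem_perp2.1 hw
    have h1 := congrArg (B w) (hN v hv v)
    have e3 : B ν (X v) = B v w₁ := by
      rw [← hsa, ← hy, C.symm, hvy v hv]
    simp [a1, e3, hvy v hv, ← hy, C.symm w ν, b1, hvy w hw] at h1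
    simp [C.symm v w, C.symm w₁ w]
    linear_combination h1
  have hw1z : w₁ = 0 := by
    by_contra hne
    obtain ⟨v, hv, hvw⟩ : ∃ v ∈ perp2 B ⊤ ν ν', B v w₁ = 1 := by
      obtain ⟨v, hv, h⟩ : ∃ v ∈ perp2 B ⊤ ν ν', B v w₁ ≠ 0 := by
        by_contra hc
        push Not at hc
        exact hne (hWn w₁ hw₁ fun v hv => by rw [C.symm]; exact hc v hv)
      exact ⟨(B v w₁)⁻¹ • v, Submodule.smul_mem _ _ hv,
        by rw [map_smul, LinearMap.smul_apply, smul_eq_mul, inv_mul_cancel₀ h]⟩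
    have hline : ∀ u ∈ perp2 B ⊤ ν ν', B u w₁ = 1 → u ∈ Submodule.span F {w₁} := fun u hu huw =>
      Submodule.mem_span_singleton.2 ⟨-(2 : F)⁻¹ * B u u, by
        have h1 := congrArg ((2 : F)⁻¹ • ·) (hquad u hu)
        simp only [huw, mul_one, smul_add, smul_smul, inv_mul_cancel₀ h2, one_smul, smul_zero] at h1
        rw [neg_mul, neg_smul, neg_eq_iff_add_eq_zero, add_comm, h1]⟩
    obtain ⟨a, ha⟩ := Submodule.mem_span_singleton.1 (hline v hv hvw)
    have hself : B w₁ w₁ ≠ 0 := fun e => by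
      rw [← ha, map_smul, LinearMap.smul_apply, e, smul_zero] at hvw
      exact zero_ne_one hvw
    have hall : perp2 B ⊤ ν ν' ≤ Submodule.span F {w₁} := fun u hu => by
      have h1 : B (v + (u - (B u w₁ / B w₁ w₁) • w₁)) w₁ = 1 := by
        simp [hvw, hself]
      have h2' := hline _ (add_mem hv (sub_mem hu (Submodule.smul_mem _ _ hw₁))) h1
      have h3' := Submodule.add_mem _ (Submodule.sub_mem _ h2' (hline v hv hvw))
        (Submodule.smul_mem _ (B u w₁ / B w₁ w₁) (Submodule.mem_span_singleton_self w₁))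
      simpa using h3'
    have hcard : Fintype.card κ ≤ 3 := by
      have h4 := H.le_finrank C
      have h5 := (Submodule.finrank_mono hall).trans (finrank_span_singleton hne).le
      rw [finrank_top, finrank_fintype_fun_eq_card] at h4
      omega
    obtain ⟨s, hs0, hs1⟩ := hq.resolve_left (by omega)
    obtain ⟨-, a1, a2⟩ := mem_perp2.1 hv
    have hQv : Q v ≠ 0 := fun e => by
      have e' := C.self_zero e
      rw [← ha] at e'
      simp only [map_smul, LinearMap.smul_apply, smul_eq_mul, mul_eq_zero, hself, or_false, or_self] at e'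
      rw [← ha, e'] at hvw
      simp at hvw
    have e1 := hN v hv ν'
    have e2 := hN (s • v) (Submodule.smul_mem _ _ hv) ν'
    simp only [map_smul, LinearMap.smul_apply, C.smul, H.pair, hvy v hv, hvw, smul_eq_mul] at e1 e2
    simp only [map_sub, map_smul] at e1 e2
    have h6 := congrArg (fun z => B ν' z) (show (s * (s * s - 1) * Q v) • ν = 0 by
      linear_combination (norm := module) (s • e1) - e2)
    simp [H.pair' C, hs0, sub_eq_zero, hs1, hQv] at h6
  rw [hw1z, add_zero] at ey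
  set e := B ν' y
  have hN0 : ∀ v ∈ perp2 B ⊤ ν ν', ∀ x,
      B ν (X x) • v - B v (X x) • ν = X (B ν x • v - B v x • ν) := fun v hv x => by
    rw [hN v hv x, hvy v hv, hw1z, map_zero, neg_zero, zero_smul, add_zero]
  obtain ⟨w₂, hw₂, ew⟩ := exists_split C H (X ν')
  obtain ⟨-, hw21, hw22⟩ := mem_perp2.1 hw₂
  have hee : B ν (X ν') = e := by rw [← hsa, ← hy, C.symm]
  rw [hee] at ew
  have hXv : ∀ v ∈ perp2 B ⊤ ν ν', X v = e • v - B v w₂ • ν := fun v hv => by
    obtain ⟨-, a1, a2⟩ := mem_perp2.1 hv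
    have h1 := hN0 v hv ν'
    rw [H.pair, C.symm v ν', a2, zero_smul, sub_zero, one_smul, hee] at h1
    rw [← h1, ew]
    simp [C.symm v ν, C.symm v ν', a1, a2]
  have hw2z : w₂ = 0 := hWn _ hw₂ fun v hv => by
    obtain ⟨-, a1, a2⟩ := mem_perp2.1 hv
    have h1 := hsa v ν'
    rw [hXv v hv, ew] at h1
    simp [C.symm v ν', a1, a2, H.pair, C.symm v ν] at h1
    have h4 : (2 : F) * B v w₂ = 0 := by linear_combination -h1
    rw [C.symm]
    exact (mul_eq_zero.1 h4).resolve_left h2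
  rw [hw2z, add_zero] at ew
  set g := B ν' (X ν')
  set R : Module.End F (κ → F) := (B ν).smulRight ν with hR
  have hXe : X = e • (1 : Module.End F (κ → F)) + g • R := LinearMap.ext fun x => by
    obtain ⟨r, hr, er⟩ := exists_split C H x
    have : X x = B ν' x • y + B ν x • X ν' + X r := by
      conv_lhs => rw [er]
      simp [hy]
    rw [this, hXv r hr, hw2z, map_zero, zero_smul, sub_zero, ey, ew]
    simp only [hR, LinearMap.add_apply, LinearMap.smul_apply, Module.End.one_apply,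
      LinearMap.smulRight_apply]
    conv_rhs => rw [er]
    simp only [map_add, map_smul, C.self_zero H.singE, H.pair, (mem_perp2.1 hr).2.1, smul_eq_mul]
    module
  exact ⟨e, g, hXe⟩

omit H in
/-- A commutative invariant space of self-adjoint maps consists of scalars. -/
theorem sym_scalar [Finite F] (h3 : 3 ≤ Fintype.card κ)
    (hq : 4 ≤ Fintype.card κ ∨ ∃ s : F, s ≠ 0 ∧ s * s ≠ 1)
    {K : Submodule F (Module.End F (κ → F))} (hsa : ∀ X ∈ K, ∀ a b, B (X a) b = B a (X b))
    (hcomm : ∀ X ∈ K, ∀ Y ∈ K, X * Y = Y * X) (hone : (1 : Module.End F (κ → F)) ∈ K)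
    (hinv : Inv Q B K) : ∀ X ∈ K, ∃ c : F, X = c • 1 := by
  obtain ⟨ν, ν', H⟩ := exists_hyp' C C.ndeg_top (by rwa [finrank_top, finrank_fintype_fun_eq_card])
  suffices hle : K ≤ Submodule.span F {(1 : Module.End F (κ → F))} from fun X hX =>
    (Submodule.mem_span_singleton.1 (hle hX)).imp fun c h => h.symm
  by_contra hle
  have h0inv : Inv Q B (Submodule.span F {(1 : Module.End F (κ → F))}) := fun u a _ _ X hX => by
    obtain ⟨t, rfl⟩ := Submodule.mem_span_singleton.1 hX
    refine Submodule.mem_span_singleton.2 ⟨t, LinearMap.ext fun x => ?_⟩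
    simp [cj_apply, Matrix.mulVec_smul, act_inv]
  obtain ⟨X, hX, hX0, hfix⟩ := exists_fixed C hinv h0inv (SetLike.not_le_iff_exists.1 hle) H.singE
  obtain ⟨e, g, hXe⟩ := fixed_sym C h2 H h3 hq (hsa X hX) hfix
  set R : Module.End F (κ → F) := (B ν).smulRight ν with hR
  have hWn := H.ndeg C C.ndeg_top
  obtain ⟨v₀, hv₀, hQv₀⟩ := exists_nonsing C hWn (perp_ne_bot C H h3)
  have hg : g ≠ 0 := fun e' => hX0 (Submodule.mem_span_singleton.2 ⟨e, by rw [hXe, e']; simp⟩)
  have hRK : R ∈ K := by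
    have h1 := K.sub_mem hX (K.smul_mem e hone)
    rw [hXe, add_sub_cancel_left] at h1
    exact (K.smul_mem_iff hg).1 h1
  obtain ⟨-, a1, a2⟩ := mem_perp2.1 hv₀
  set s := sGL Q B ν' v₀
  set ν₁ := s.val *ᵥ ν with hν₁
  have hs := sGL_mem C H.singF a2
  have hR1 : cj s R = (B ν₁).smulRight ν₁ := LinearMap.ext fun x => by
    simp only [cj_apply, hR, LinearMap.smulRight_apply, Matrix.mulVec_smul, hν₁]
    rw [C.B_act_left hs]
  have hR1K : (B ν₁).smulRight ν₁ ∈ K := hR1 ▸ hinv _ _ H.singF a2 _ hRK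
  have e1 : ν₁ = ν + v₀ - Q v₀ • ν' := by
    rw [hν₁, sGL_act C H.singF a2, H.pair' C, C.symm v₀ ν, a1]
    simp
  have h5 := congrArg (B ν) (LinearMap.congr_fun (hcomm R hRK _ hR1K) ν')
  simp [hR, Module.End.mul_apply, e1, H.pair, a1, C.symm v₀ ν', a2, C.self_zero H.singE,
    C.self_zero H.singF, C.symm ν' ν, C.symm v₀ ν] at h5
  exact hQv₀ h5

end Cfsg.Lib.Linear.OOTensor
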