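import Cfsg.Agent.Lib.Linear.OOTensor.Max

/-!
# Swapping the factors and the small first factor
-/

set_option autoImplicit false
set_option linter.unusedSectionVars false

namespace Cfsg.Lib.Linear.OOTensor

open Module
open scoped Matrix Kronecker
open Cfsg.Lib.Linear.Orth
open Cfsg.Lib.Linear.AschGen (tensorProductSubgroup_swap)

variable {F : Type*} [Field F] {n : ℕ} {f : (Fin n → F) → (Fin n → F) → F}

theorem finrank_two {a b : Fin n → F} (ha : a ≠ 0) (hb : b ∉ Submodule.span F {a}) :
    finrank F (Submodule.span F ({a, b} : Set (Fin n → F))) = 2 := by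
  have hli : LinearIndependent F ![a, b] :=
    (LinearIndependent.pair_iff' ha).2 fun t ht => hb (Submodule.mem_span_singleton.2 ⟨t, ht⟩)
  have h := finrank_span_eq_card hli
  rw [Matrix.range_cons, Matrix.range_cons, Matrix.range_empty, Set.union_empty,
    Set.singleton_union, Fintype.card_fin] at h
  exact h

/-- Without a totally singular plane, orthogonal singular vectors are dependent. -/
theorem dep_of_no_plane (hf : Cfsg.Geo.IsSymmetricForm f)
    (hnp : ∀ U : Submodule F (Fin n → F), (∀ v ∈ U, f v v = 0) → finrank F U ≠ 2)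
    (a b : Fin n → F) (ha : f a a = 0) (hb : f b b = 0) (hab : f a b = 0) (ha0 : a ≠ 0) :
    b ∈ Submodule.span F {a} := by
  by_contra hb0
  refine hnp (Submodule.span F {a, b}) (fun v hv => ?_) (finrank_two ha0 hb0)
  obtain ⟨s, t, rfl⟩ := Submodule.mem_span_pair.1 hv
  simp only [hf.bilinear.add_left, hf.bilinear.add_right, hf.bilinear.smul_left,
    hf.bilinear.smul_right, ha, hb, hab, hf.symm b a]
  ring

theorem no_plane_three (hf : Cfsg.Geo.IsSymmetricForm f) (h2 : (2 : F) ≠ 0) (hn : n ≤ 3)
    (U : Submodule F (Fin n → F)) (hU : ∀ v ∈ U, f v v = 0) : finrank F U ≠ 2 := by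
  let α : LinearMap.BilinForm F (Fin n → F) := LinearMap.mk₂ F f hf.bilinear.add_left
    hf.bilinear.smul_left hf.bilinear.add_right hf.bilinear.smul_right
  have C : Space (fun v => (2 : F)⁻¹ * α v v) α := by
    refine ⟨fun c v => ?_, fun u v => ?_, fun v h => ?_⟩
    · simp; ring
    · have hsym : α v u = α u v := hf.symm v u
      simp only [QuadraticMap.polar, map_add, LinearMap.add_apply, hsym]
      field_simp
      ring
    · by_contra hne
      obtain ⟨x, hx⟩ := (hf.nondegenerate v hne).1
      exact hx (h x)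
  intro h
  have := ts_bound C (A := U) fun v hv => by
    show (2 : F)⁻¹ * f v v = 0
    rw [hU v hv, mul_zero]
  rw [Fintype.card_fin] at this
  omega

variable {ι : Type} [Fintype ι] [DecidableEq ι] {n₁ n₂ : ℕ} {e : ι ≃ Fin n₁ × Fin n₂} {P : GL ι F}

/-- The structure with the factors exchanged. -/
theorem structure_swap {g : (ι → F) → (ι → F) → F} {f₁ : (Fin n₁ → F) → (Fin n₁ → F) → F}
    {f₂ : (Fin n₂ → F) → (Fin n₂ → F) → F}
    (hT : Cfsg.Geo.IsTensorFormStructure id g f₁ f₂ e P) :
    Cfsg.Geo.IsTensorFormStructure id g f₂ f₁ (e.trans (Equiv.prodComm _ _)) P := by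
  obtain ⟨c, hc0, hc⟩ := hT
  refine ⟨c, hc0, fun x y => ?_⟩
  refine (hc (x ∘ Prod.swap) (y ∘ Prod.swap)).trans (congrArg (c * ·) ?_)
  refine Fintype.sum_equiv (Equiv.prodComm _ _) _ _ fun a => ?_
  refine Fintype.sum_equiv (Equiv.prodComm _ _) _ _ fun b => ?_
  simp only [Function.comp_apply, Equiv.prodComm_apply, Matrix.kroneckerMap_apply, Prod.fst_swap,
    Prod.snd_swap, id_eq]
  ring

theorem stabiliser_swap (e : ι ≃ Fin n₁ × Fin n₂) (P : GL ι F) :
    Cfsg.Geo.tensorProductSubgroup n₁ n₂ e P =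
      Cfsg.Geo.tensorProductSubgroup n₂ n₁ (e.trans (Equiv.prodComm _ _)) P := by
  refine le_antisymm tensorProductSubgroup_swap (le_trans tensorProductSubgroup_swap ?_)
  rw [show (e.trans (Equiv.prodComm _ _)).trans (Equiv.prodComm _ _) = e from Equiv.ext fun _ => rfl]

end Cfsg.Lib.Linear.OOTensor
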