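import Cfsg.Agent.Lib.Linear.OOTensor.Root

/-!
# An overgroup without long elements acts factorwise
-/

set_option autoImplicit false
set_option linter.unusedSectionVars false
set_option linter.unusedSimpArgs false
set_option linter.style.haveILetI false

namespace Cfsg.Lib.Linear.OOTensor

open Module
open scoped Matrix
open Cfsg.Lib.Linear.Orth

variable {ι κ μ : Type} [Fintype ι] [DecidableEq ι] [Fintype κ] [DecidableEq κ] [Fintype μ]
  [DecidableEq μ] {F : Type*} [Field F] {Q : (ι → F) → F} {B : LinearMap.BilinForm F (ι → F)}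
  {α : LinearMap.BilinForm F (κ → F)} {β : LinearMap.BilinForm F (μ → F)}
  {τ : (κ → F) →ₗ[F] (μ → F) →ₗ[F] (ι → F)} {L : Subgroup (GL ι F)}

/-- An involutory similitude in odd dimension is an isometry. -/
theorem sim_one {Qc : (μ → F) → F} {Bc : LinearMap.BilinForm F (μ → F)} (C : Space Qc Bc)
    (h2 : (2 : F) ≠ 0) (hodd : Odd (Fintype.card μ)) {P : Module.End F (μ → F)}
    (hP : ∀ v, P (P v) = v) {ν : F} (hν : ∀ v w, Bc (P v) (P w) = ν * Bc v w) : ν = 1 := by
  by_contra hne
  have hsing : ∀ (s : F), s * s = 1 → ∀ v, P v = s • v → Qc v = 0 := by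
    intro s hs v hv
    have h1 := hν v v
    rw [hv] at h1
    simp only [map_smul, LinearMap.smul_apply, smul_eq_mul] at h1
    rw [← mul_assoc, hs, one_mul, C.self] at h1
    have h3 : (ν - 1) * (2 * Qc v) = 0 := by linear_combination -h1
    simpa [sub_eq_zero, hne, h2] using h3
  have b1 := ts_bound C (A := LinearMap.ker (P - 1)) fun v hv => hsing 1 (one_mul 1) v (by
    rw [LinearMap.mem_ker, LinearMap.sub_apply, sub_eq_zero, Module.End.one_apply] at hv
    rw [hv, one_smul])
  have b2 := ts_bound C (A := LinearMap.ker (P + 1)) fun v hv => hsing (-1) (by ring) v (by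
    rw [LinearMap.mem_ker, LinearMap.add_apply, Module.End.one_apply, add_eq_zero_iff_eq_neg] at hv
    rw [hv, neg_one_smul])
  have htop : (⊤ : Submodule F (μ → F)) ≤ LinearMap.ker (P - 1) ⊔ LinearMap.ker (P + 1) :=
    fun v _ => Submodule.mem_sup.2 ⟨(2 : F)⁻¹ • (v + P v), by
      rw [LinearMap.mem_ker, LinearMap.sub_apply, Module.End.one_apply, map_smul, map_add, hP,
        add_comm (P v), sub_self],
      (2 : F)⁻¹ • (v - P v), by
      rw [LinearMap.mem_ker, LinearMap.add_apply, Module.End.one_apply, map_smul, map_sub, hP,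
        ← smul_add, show P v - v + (v - P v) = 0 by abel, smul_zero], by
        rw [← smul_add, show v + P v + (v - P v) = (2 : F) • v by module, smul_smul,
          inv_mul_cancel₀ h2, one_smul]⟩
  have h3 := Submodule.finrank_mono htop
  have h4 := Submodule.finrank_add_le_finrank_add_finrank (LinearMap.ker (P - 1))
    (LinearMap.ker (P + 1))
  rw [finrank_top, finrank_fintype_fun_eq_card] at h3
  obtain ⟨t, ht⟩ := hodd
  omega

theorem isSquare_of_pow (n : ℕ) (hn : Odd n) {c d : F} (hd : d ≠ 0) (h : c ^ n = d * d) :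
    ∃ t : F, t ≠ 0 ∧ t * t = c := by
  obtain ⟨j, rfl⟩ := hn
  have hc : c ≠ 0 := fun e => by
    rw [e, zero_pow (by omega)] at h
    exact mul_ne_zero hd hd h.symm
  refine ⟨c ^ (j + 1) / d, div_ne_zero (pow_ne_zero _ hc) hd, ?_⟩
  field_simp
  linear_combination (exp := 1) c * h

variable (T : Ten Q B α β τ)
include T

theorem exists_plane [Finite F] (hk : 5 ≤ Fintype.card μ) {x : μ → F} (hx : qf β x = 0)
    (hx0 : x ≠ 0) : ∃ y, Plane β x y := by
  obtain ⟨f, H⟩ := exists_hyp T.SW T.SW.ndeg_top (Submodule.mem_top : x ∈ ⊤) hx0 hx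
  have h3 : 3 ≤ finrank F (perp2 β ⊤ x f) := by
    have := H.le_finrank T.SW
    rw [finrank_top, finrank_fintype_fun_eq_card] at this
    omega
  obtain ⟨y, hy, hy0, hQy⟩ := Sing.exists_singular T.SW.smul T.SW.polar _ h3
  obtain ⟨-, h1, h2⟩ := mem_perp2.1 hy
  refine ⟨y, hx, hQy, h1, hx0, fun hm => hy0 ?_⟩
  obtain ⟨c, rfl⟩ := Submodule.mem_span_singleton.1 hm
  rw [map_smul, H.pair' T.SW, smul_eq_mul, mul_one] at h2
  rw [h2, zero_smul]

/-- An involution commuting with a root element, normalised. -/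
theorem inv_form (hR : Ranks α μ) {z : GL ι F} (hz : z ∈ isometryGroup F Q) (hzz : z * z = 1)
    {x y : μ → F} (P : Plane β x y) (hc : z * rootA T x y = rootA T x y * z) (hp : Pure τ z) :
    ∃ (p : Module.End F (κ → F)) (q : Module.End F (μ → F)),
      (∀ u w, z.val *ᵥ τ u w = τ (p u) (q w)) ∧ (∀ u, p (p u) = u) ∧ (∀ w, q (q w) = w) ∧
      (∀ v w, β (q v) (q w) = β v w) ∧ q x = x ∧ q y = y := by
  obtain ⟨p, q, hpq⟩ := hp
  have hκ : 0 < Fintype.card κ := by have := hR.hm; omega
  have hμ : 0 < Fintype.card μ := by have := hR.hk; omega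
  obtain ⟨u₀, hu₀⟩ := T.exists_aniso_left hκ
  have hu₀0 : u₀ ≠ 0 := fun e => hu₀ (by simp [e])
  obtain ⟨w₀, hw₀⟩ := T.swap.exists_aniso_left hμ
  have hw₀0 : w₀ ≠ 0 := fun e => hw₀ (by simp [e])
  have hsq : ∀ u w, τ (p.val *ᵥ (p.val *ᵥ u)) (q.val *ᵥ (q.val *ᵥ w)) = τ u w := fun u w => by
    rw [← hpq, ← hpq, ← mul_act, hzz, Units.val_one, Matrix.one_mulVec]
  set c := β (q.val *ᵥ (q.val *ᵥ w₀)) w₀ / β w₀ w₀ with hcdef
  have hp2 : ∀ u, c • (p.val *ᵥ (p.val *ᵥ u)) = u := fun u => by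
    have h1 := congrArg (T.ctr w₀) (hsq u w₀)
    rw [T.ctr_tau, T.ctr_tau] at h1
    rw [hcdef, div_eq_inv_mul, mul_smul, h1, smul_smul, inv_mul_cancel₀ hw₀, one_smul]
  have hc0 : c ≠ 0 := fun e => hu₀0 (by rw [← hp2 u₀, e, zero_smul])
  have hpp : ∀ u, p.val *ᵥ (p.val *ᵥ u) = c⁻¹ • u := fun u => by
    conv_rhs => rw [← hp2 u]
    rw [smul_smul, inv_mul_cancel₀ hc0, one_smul]
  have hqq : ∀ w, q.val *ᵥ (q.val *ᵥ w) = c • w := fun w => by
    have h1 := hsq u₀ w
    rw [hpp, map_smul, LinearMap.smul_apply, ← map_smul] at h1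
    have h2 := T.swap.tau_inj hu₀0 (a := c⁻¹ • (q.val *ᵥ (q.val *ᵥ w))) (b := w) h1
    have h3 := congrArg (c • ·) h2
    simp only [smul_smul, mul_inv_cancel₀ hc0, one_smul] at h3
    exact h3
  obtain ⟨t, ht0, ht⟩ : ∃ t : F, t ≠ 0 ∧ t * t = c := by
    rcases hR.hpar with ho | ho
    · have h1 : (p.val * p.val) = c⁻¹ • (1 : Matrix κ κ F) := Orth.mat_ext fun u => by
        rw [← Matrix.mulVec_mulVec, hpp, Matrix.smul_mulVec, Matrix.one_mulVec]
      have h2 := congrArg Matrix.det h1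
      rw [Matrix.det_mul, Matrix.det_smul, Matrix.det_one, mul_one] at h2
      have hd : p.val.det ≠ 0 := fun e => by
        rw [e, zero_mul] at h2
        exact pow_ne_zero _ (inv_ne_zero hc0) h2.symm
      obtain ⟨t, ht0, ht⟩ := isSquare_of_pow _ ho hd h2.symm
      exact ⟨t⁻¹, inv_ne_zero ht0, by rw [← mul_inv, ht, inv_inv]⟩
    · have h1 : (q.val * q.val) = c • (1 : Matrix μ μ F) := Orth.mat_ext fun u => by
        rw [← Matrix.mulVec_mulVec, hqq, Matrix.smul_mulVec, Matrix.one_mulVec]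
      have h2 := congrArg Matrix.det h1
      rw [Matrix.det_mul, Matrix.det_smul, Matrix.det_one, mul_one] at h2
      have hd : q.val.det ≠ 0 := fun e => by
        rw [e, zero_mul] at h2
        exact pow_ne_zero _ hc0 h2.symm
      exact isSquare_of_pow _ ho hd h2.symm
  set p' : Module.End F (κ → F) := t • Matrix.mulVecLin p.val with hp'
  set q' : Module.End F (μ → F) := t⁻¹ • Matrix.mulVecLin q.val with hq'
  have hz' : ∀ u w, z.val *ᵥ τ u w = τ (p' u) (q' w) := fun u w => by
    simp [hp', hq', hpq, smul_smul, ht0]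
  have hp1 : ∀ u, p' (p' u) = u := fun u => by
    simp [hp', Matrix.mulVec_smul, hpp, smul_smul, -Matrix.mulVec_mulVec]
    rw [← mul_assoc, ht, mul_inv_cancel₀ hc0, one_smul]
  have hq1 : ∀ w, q' (q' w) = w := fun w => by
    simp [hq', Matrix.mulVec_smul, hqq, smul_smul, -Matrix.mulVec_mulVec]
    rw [← mul_assoc, ← mul_inv, ht, inv_mul_cancel₀ hc0, one_smul]
  have hpair : ∀ u v a b, α (p' u) (p' v) * β (q' a) (q' b) = α u v * β a b := fun u v a b => by
    rw [← T.pair, ← T.pair, ← hz', ← hz', T.space.B_act hz]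
  have hqw : β (q' w₀) (q' w₀) ≠ 0 := fun e => by
    have h1 := hpair u₀ u₀ w₀ w₀
    rw [e, mul_zero] at h1
    exact mul_ne_zero hu₀ hw₀ h1.symm
  set ν := β w₀ w₀ / β (q' w₀) (q' w₀) with hν
  have hpν : ∀ u v, α (p' u) (p' v) = ν * α u v := fun u v => by
    rw [hν, div_mul_eq_mul_div, eq_div_iff hqw]
    linear_combination hpair u v w₀ w₀
  have hν0 : ν ≠ 0 := div_ne_zero hw₀ hqw
  have hqν : ∀ a b, β (q' a) (q' b) = ν⁻¹ * β a b := fun a b => by
    have h1 := hpair u₀ u₀ a b
    rw [hpν] at h1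
    field_simp
    exact mul_left_cancel₀ hu₀ (by linear_combination h1)
  have hν1 : ν = 1 := by
    rcases hR.hpar with ho | ho
    · exact sim_one T.SU T.h2 ho hp1 hpν
    · exact inv_eq_one.1 (sim_one T.SW T.h2 ho hq1 hqν)
  have hqI : ∀ a b, β (q' a) (q' b) = β a b := fun a b => by rw [hqν, hν1, inv_one, one_mul]
  -- the plane is fixed up to a sign
  set ρ := sGL (qf β) β x y
  have hcomm : ∀ w, ρ.val *ᵥ q' w = q' (ρ.val *ᵥ w) := fun w => by
    have hp'0 : p' u₀ ≠ 0 := fun e => hu₀0 (by rw [← hp1 u₀, e, map_zero])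
    refine T.swap.tau_inj hp'0 ?_
    have h1 := congrArg (fun g : GL ι F => g.val *ᵥ τ u₀ w) hc
    simp only [mul_act, rootA, T.liftR_act, hz'] at h1
    exact h1.symm
  have hid : ∀ v, q' (β x v • y - β y v • x) = β (q' x) v • y - β (q' y) v • x := fun v => by
    have h1 := hcomm v
    rw [P.root_act T, P.root_act T, map_add, add_right_inj] at h1
    rw [← h1]
    congr 2
    · rw [← hqI (q' x) v, hq1]
    · rw [← hqI (q' y) v, hq1]
  obtain ⟨wx, a1, a2⟩ := exists_dual_plane T P.indep'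
  obtain ⟨wy, b1, b2⟩ := exists_dual_plane T P.indep
  have ey := hid wx
  have ex := hid wy
  rw [a1, a2, one_smul, zero_smul, sub_zero] at ey
  rw [b1, b2, zero_smul, one_smul, zero_sub, map_neg] at ex
  set a := β (q' x) wx
  set c' := β (q' y) wx
  set b := β (q' x) wy
  set d := β (q' y) wy
  have ex' : q' x = d • x - b • y := by rw [← neg_neg (q' x), ex]; abel
  have hx1 : a = d := by
    show β (q' x) wx = d
    rw [ex']
    simp [a1, a2]
  have hx2 : b = 0 := by
    have : β (q' x) wy = -b := by rw [ex']; simp [b1, b2]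
    exact (mul_eq_zero.1 (show (2 : F) * b = 0 by linear_combination this)).resolve_left T.h2
  have hy2 : c' = 0 := by
    have : β (q' y) wx = -c' := by rw [ey]; simp [a1, a2]
    exact (mul_eq_zero.1 (show (2 : F) * c' = 0 by linear_combination this)).resolve_left T.h2
  rw [hx2, zero_smul, sub_zero, ← hx1] at ex'
  rw [hy2, zero_smul, sub_zero] at ey
  have ha : a * a = 1 := by
    have h1 := hq1 x
    rw [ex', map_smul, ex', smul_smul] at h1
    by_contra hne
    have h3 : (a * a - 1) • x = 0 := by rw [sub_smul, h1, one_smul, sub_self]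
    exact P.ne ((smul_eq_zero.1 h3).resolve_left (sub_ne_zero.2 hne))
  refine ⟨a • p', a • q', fun u w => ?_, fun u => ?_, fun w => ?_, fun v w => ?_, ?_, ?_⟩
  · simp [hz', smul_smul, ha]
  · simp [smul_smul, ha, hp1]
  · simp [smul_smul, ha, hq1]
  · simp [hqI, ← mul_assoc, ha]
  · simp [ex', smul_smul, ha]
  · simp [ey, smul_smul, ha]

omit T in
theorem finrank_split (f : Module.End F (ι → F)) (V : Submodule F (ι → F)) :
    finrank F (V.map f) + finrank F (LinearMap.ker f ⊓ V : Submodule F (ι → F)) = finrank F V := by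
  have h := (f.domRestrict V).finrank_range_add_finrank_ker
  rw [LinearMap.range_domRestrict, LinearMap.ker_domRestrict] at h
  have e : finrank F (Submodule.comap V.subtype (LinearMap.ker f)) =
      finrank F (LinearMap.ker f ⊓ V : Submodule F (ι → F)) := by
    rw [LinearEquiv.finrank_eq (Submodule.equivMapOfInjective _ V.injective_subtype _),
      Submodule.map_comap_subtype, inf_comm]
  omega

/-- The subgroup generated by a root element and a conjugate is not a `p`-group. -/
theorem not_pgroup [Finite F] (hlose : Losing T L) (hL : Over T L) (hR : Ranks α μ) (p : ℕ)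
    [Fact p.Prime] {x y : μ → F} (P : Plane β x y) {b : GL ι F} (hb : b ∈ L) (hbp : ¬ Pure τ b) :
    ¬ IsPGroup p (Subgroup.closure {rootA T x y, b} : Subgroup (GL ι F)) := by
  intro hX
  set X := Subgroup.closure {rootA T x y, b}
  have hXL : X ≤ L := (Subgroup.closure_le _).2
    (Set.insert_subset (rootA_mem T hL P) (Set.singleton_subset_iff.2 hb))
  haveI := hX.isNilpotent
  set D : Subgroup X := (L ⊓ pureGroup τ).subgroupOf X
  have hlt : D < ⊤ := lt_top_iff_ne_top.2 fun e => hbp (by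
    have : (⟨b, Subgroup.subset_closure (by simp)⟩ : X) ∈ D := e ▸ Subgroup.mem_top _
    exact (Subgroup.mem_subgroupOf.1 this).2)
  obtain ⟨g, hgN, hgD⟩ := SetLike.exists_of_lt (Group.normalizerCondition_of_isNilpotent D hlt)
  have hA : (⟨rootA T x y, Subgroup.subset_closure (by simp)⟩ : X) ∈ D :=
    Subgroup.mem_subgroupOf.2 ⟨rootA_mem T hL P, T.liftR_pure _⟩
  have h1 := Subgroup.mem_subgroupOf.1 ((Subgroup.mem_normalizer_iff.1 hgN _).1 hA)
  exact hgD (Subgroup.mem_subgroupOf.2 ⟨hXL g.2, pure_of_conj T hlose hL hR (hXL g.2) P h1.2⟩)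

/-- The fixed space of an element in the second factor. -/
def fixW (τ : (κ → F) →ₗ[F] (μ → F) →ₗ[F] (ι → F)) (b : GL ι F) : Submodule F (μ → F) :=
  ⨅ a, LinearMap.ker ((Matrix.mulVecLin b.val - LinearMap.id) ∘ₗ τ a)

omit T in
theorem mem_fixW {b : GL ι F} {w : μ → F} :
    w ∈ fixW τ b ↔ ∀ a, b.val *ᵥ τ a w = τ a w := by
  simp [fixW, Submodule.mem_iInf, sub_eq_zero]

/-- What a plane says about a conjugate root element. -/
theorem plane_split [Finite F] (hlose : Losing T L) (hL : Over T L) (hR : Ranks α μ) (p : ℕ)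
    [Fact p.Prime] [CharP F p] {x y : μ → F} (P : Plane β x y) {b : GL ι F} (hb : b ∈ L)
    (hbp : ¬ Pure τ b) (hb2 : (opHom b - 1) * (opHom b - 1) = 0)
    (hrank : finrank F (LinearMap.range (opHom b - 1)) = Fintype.card κ * 2) :
    ∃ W' : Submodule F (μ → F), W' ≤ fixW τ b ∧ finrank F W' + 4 = Fintype.card μ ∧
      ∀ s ∈ W', β x s = 0 := by
  have hκ : 0 < Fintype.card κ := by have := hR.hm; omega
  set a₀ := rootA T x y with ha₀
  have ha0I : a₀ ∈ isometryGroup F Q := hL.le (rootA_mem T hL P)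
  obtain ⟨z, hzX, hzz, hz1, hza, hzb⟩ := exists_central_involution T.space T.h2 p ha0I (hL.le hb)
    (rootA_sq T P) hb2 (not_pgroup T hlose hL hR p P hb hbp)
  have hzL : z ∈ L := (Subgroup.closure_le _).2
    (Set.insert_subset (rootA_mem T hL P) (Set.singleton_subset_iff.2 hb)) hzX
  obtain ⟨pz, qz, hz, hp2, hq2, hqI, hqx, hqy⟩ :=
    inv_form T hR (hL.le hzL) hzz P hza (pure_of_comm T hlose hL hR hzL P hza)
  set A : Module.End F (ι → F) := opHom a₀ - 1 with hAdef
  set N : Module.End F (ι → F) := opHom b - 1 with hNdef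
  set Vm : Submodule F (ι → F) := LinearMap.ker (opHom z + 1) with hVm
  have hmemV : ∀ {v}, v ∈ Vm ↔ z.val *ᵥ v = -v := fun {v} => by
    rw [hVm, LinearMap.mem_ker, LinearMap.add_apply, Module.End.one_apply, opHom_apply,
      add_eq_zero_iff_eq_neg]
  have hcA : ∀ v, A (z.val *ᵥ v) = z.val *ᵥ A v := fun v => by
    simp [hAdef, opHom_apply, Matrix.mulVec_sub, -Matrix.mulVec_mulVec]
    rw [← mul_act, ← hza, mul_act]
  have hcN : ∀ v, N (z.val *ᵥ v) = z.val *ᵥ N v := fun v => by
    simp [hNdef, opHom_apply, Matrix.mulVec_sub, -Matrix.mulVec_mulVec]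
    rw [← mul_act, ← hzb, mul_act]
  have hmapV : ∀ {f : Module.End F (ι → F)}, (∀ v, f (f v) = 0) →
      (∀ v, f (z.val *ᵥ v) = z.val *ᵥ f v) → Vm.map f ≤ LinearMap.ker f ⊓ Vm := by
    rintro f hf hc _ ⟨v, hv, rfl⟩
    refine ⟨LinearMap.mem_ker.2 (hf v), hmemV.2 ?_⟩
    rw [← hc, hmemV.1 hv, map_neg]
  have hker : LinearMap.ker A ⊓ Vm ⊓ (LinearMap.ker N ⊓ Vm) = ⊥ := by
    rw [eq_bot_iff]
    rintro v ⟨⟨h1, h2⟩, h3, -⟩
    rw [Submodule.mem_bot]
    have hfix : ∀ g ∈ Subgroup.closure {a₀, b}, g.val *ᵥ v = v := by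
      intro g hg
      induction hg using Subgroup.closure_induction with
      | mem g hg =>
        rcases hg with rfl | rfl
        · exact sub_eq_zero.1 h1
        · exact sub_eq_zero.1 h3
      | one => simp
      | mul g g' _ _ ih ih' => rw [mul_act, ih', ih]
      | inv g _ ih => conv_lhs => rw [← ih, inv_act]
    have h4 := hfix z hzX
    rw [hmemV.1 h2, neg_eq_iff_add_eq_zero, ← two_smul F v] at h4
    exact (smul_eq_zero.1 h4).resolve_left T.h2
  have e1 := finrank_split A Vm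
  have e2 := finrank_split N Vm
  have e3 := Submodule.finrank_mono (hmapV (fun v => LinearMap.congr_fun (rootA_sq T P) v) hcA)
  have e4 := Submodule.finrank_mono (hmapV (fun v => LinearMap.congr_fun hb2 v) hcN)
  have e5 := Submodule.finrank_sup_add_finrank_inf_eq (LinearMap.ker A ⊓ Vm) (LinearMap.ker N ⊓ Vm)
  have e6 := Submodule.finrank_mono
    (show (LinearMap.ker A ⊓ Vm) ⊔ (LinearMap.ker N ⊓ Vm) ≤ Vm from sup_le inf_le_right inf_le_right)
  rw [hker, finrank_bot] at e5
  have hkerA : LinearMap.ker A ⊓ Vm ≤ tn τ (Submodule.span F ({x, y} : Set (μ → F))) := by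
    rw [← rootA_range T P, ← hAdef]
    rw [← Submodule.eq_of_le_of_finrank_le
      (hmapV (fun v => LinearMap.congr_fun (rootA_sq T P) v) hcA) (by omega)]
    exact LinearMap.map_le_range
  -- the eigenspaces of the factors
  set Wp := LinearMap.ker (qz - 1) with hWp
  set Wm := LinearMap.ker (qz + 1) with hWm
  have memWp : ∀ {w}, w ∈ Wp ↔ qz w = w := fun {w} => by simp [hWp, sub_eq_zero]
  have memWm : ∀ {w}, w ∈ Wm ↔ qz w = -w := fun {w} => by simp [hWm, add_eq_zero_iff_eq_neg]
  have horth : ∀ v ∈ Wp, ∀ w ∈ Wm, β v w = 0 := fun v hv w hw => by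
    have h1 := hqI v w
    rw [memWp.1 hv, memWm.1 hw, map_neg] at h1
    exact (mul_eq_zero.1 (show (2 : F) * β v w = 0 by linear_combination -h1)).resolve_left T.h2
  have hxp : x ∈ Wp := memWp.2 hqx
  have hyp : y ∈ Wp := memWp.2 hqy
  have hAfix : ∀ a w, β x w = 0 → β y w = 0 → A (τ a w) = 0 := fun a w h1 h2 => by
    simp [hAdef, opHom_apply, ha₀, rootA, T.liftR_act, P.root_act T, h1, h2]
  have key : ∀ a w, z.val *ᵥ τ a w = -τ a w → β x w = 0 → β y w = 0 → a ≠ 0 →
      w ∈ Submodule.span F ({x, y} : Set (μ → F)) := fun a w h1 h2 h3 ha =>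
    mem_of_tau_mem_tn T ha (hkerA ⟨LinearMap.mem_ker.2 (hAfix a w h2 h3), hmemV.2 h1⟩)
  have hspanP : Submodule.span F ({x, y} : Set (μ → F)) ≤ Wp :=
    Submodule.span_le.2 (Set.insert_subset hxp (Set.singleton_subset_iff.2 hyp))
  have hWsplit : ∀ w, w = (2 : F)⁻¹ • (w + qz w) + (2 : F)⁻¹ • (w - qz w) := fun w => by
    rw [← smul_add, show w + qz w + (w - qz w) = (2 : F) • w by module, smul_smul,
      inv_mul_cancel₀ T.h2, one_smul]
  have hWp' : ∀ w, (2 : F)⁻¹ • (w + qz w) ∈ Wp := fun w => memWp.2 (by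
    rw [map_smul, map_add, hq2, add_comm])
  have hWm' : ∀ w, (2 : F)⁻¹ • (w - qz w) ∈ Wm := fun w => memWm.2 (by
    rw [map_smul, map_sub, hq2, ← smul_neg, neg_sub])
  have hdimsum : finrank F Wp + finrank F Wm = Fintype.card μ := by
    rw [← Submodule.finrank_sup_add_finrank_inf_eq,
      show Wp ⊔ Wm = ⊤ from eq_top_iff.2 fun w _ =>
        (hWsplit w).symm ▸ Submodule.add_mem_sup (hWp' w) (hWm' w),
      show Wp ⊓ Wm = ⊥ from eq_bot_iff.2 fun w hw => by
        rw [Submodule.mem_bot]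
        have h1 := (memWp.1 hw.1).symm.trans (memWm.1 hw.2)
        rw [← add_eq_zero_iff_eq_neg, ← two_smul F w] at h1
        exact (smul_eq_zero.1 h1).resolve_left T.h2,
      finrank_top, finrank_fintype_fun_eq_card, finrank_bot, add_zero]
  obtain ⟨u₁, hu₁, hu₁0⟩ : ∃ u, pz u = -u ∧ u ≠ 0 := by
    by_contra hno
    push Not at hno
    have hp1 : ∀ u, pz u = u := fun u => by
      by_contra hne
      exact sub_ne_zero.2 (Ne.symm hne) (hno (u - pz u) (by rw [map_sub, hp2, neg_sub]))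
    obtain ⟨u₀, hu₀⟩ := T.exists_aniso_left hκ
    have hu₀0 : u₀ ≠ 0 := fun e => hu₀ (by simp [e])
    refine hz1 (T.gl_ext fun a w => ?_)
    rw [hz, hp1, Units.val_one, Matrix.one_mulVec]
    have hm : (2 : F)⁻¹ • (w - qz w) = 0 := by
      by_contra hne
      have hw' := hWm' w
      have hh := key u₀ _ (by rw [hz, hp1, memWm.1 hw', map_neg]) (horth x hxp _ hw')
        (horth y hyp _ hw') hu₀0
      have h1 := (memWp.1 (hspanP hh)).symm.trans (memWm.1 hw')
      rw [← add_eq_zero_iff_eq_neg, ← two_smul F ((2 : F)⁻¹ • (w - qz w))] at h1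
      exact hne ((smul_eq_zero.1 h1).resolve_left T.h2)
    rw [smul_eq_zero, sub_eq_zero] at hm
    rw [← hm.resolve_left (inv_ne_zero T.h2)]
  have hK : Wp ⊓ (LinearMap.ker (β x) ⊓ LinearMap.ker (β y))
      = Submodule.span F ({x, y} : Set (μ → F)) := by
    refine le_antisymm (fun w hw => ?_) (le_inf hspanP (Submodule.span_le.2 ?_))
    · exact key u₁ w (by rw [hz, hu₁, memWp.1 hw.1, map_neg, LinearMap.neg_apply]) hw.2.1 hw.2.2 hu₁0
    · intro v hv
      simp only [Set.mem_insert_iff, Set.mem_singleton_iff] at hv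
      rcases hv with hv | hv <;>
        simp [hv, T.qf_zero.1 P.singX, T.qf_zero.1 P.singY, P.orth, T.sβ y x]
  set Φ := ((β x).prod (β y)).domRestrict Wp
  have hΦ : finrank F (LinearMap.range Φ) = 2 := by
    have hle := Submodule.finrank_le (LinearMap.range Φ)
    rw [Module.finrank_prod, Module.finrank_self] at hle
    refine le_antisymm hle ?_
    obtain ⟨wx, a1, a2⟩ := exists_dual_plane T P.indep'
    obtain ⟨wy, b1, b2⟩ := exists_dual_plane T P.indep
    have hpl : ∀ v ∈ Wp, ∀ w, β v ((2 : F)⁻¹ • (w + qz w)) = β v w := fun v hv w => by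
      conv_rhs => rw [hWsplit w, map_add, horth v hv _ (hWm' w), add_zero]
    have f1 : Φ ⟨_, hWp' wx⟩ = (1, 0) := by
      show (β x _, β y _) = _
      simp only [Submodule.coe_subtype]
      rw [hpl x hxp, hpl y hyp, a1, a2]
    have f2 : Φ ⟨_, hWp' wy⟩ = (0, 1) := by
      show (β x _, β y _) = _
      simp only [Submodule.coe_subtype]
      rw [hpl x hxp, hpl y hyp, b1, b2]
    have htop : (⊤ : Submodule F (F × F)) ≤ LinearMap.range Φ := fun v _ =>
      ⟨v.1 • ⟨_, hWp' wx⟩ + v.2 • ⟨_, hWp' wy⟩, by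
        rw [map_add, map_smul, map_smul, f1, f2]
        simp⟩
    have := Submodule.finrank_mono htop
    rw [finrank_top, Module.finrank_prod, Module.finrank_self] at this
    exact this
  have hWp4 : finrank F Wp = 4 := by
    have h1 := Φ.finrank_range_add_finrank_ker
    have h2 : finrank F (LinearMap.ker Φ) = 2 := by
      rw [← LinearEquiv.finrank_eq (Submodule.equivMapOfInjective _ Wp.injective_subtype _).symm,
        show (LinearMap.ker Φ).map Wp.subtype
          = Wp ⊓ (LinearMap.ker (β x) ⊓ LinearMap.ker (β y)) by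
          rw [LinearMap.ker_domRestrict, Submodule.map_comap_subtype, LinearMap.ker_prod],
        hK, P.finrank]
    omega
  have hpm : ∀ u, pz u = -u := by
    intro u
    by_contra hne
    have hu0 : u + pz u ≠ 0 := fun e => hne (eq_neg_of_add_eq_zero_right e)
    obtain ⟨w, hw, hw0⟩ := Submodule.exists_mem_ne_zero_of_ne_bot (p := Wm) fun e => by
      rw [e, finrank_bot] at hdimsum
      have := hR.hk
      omega
    have h1 := key (u + pz u) w
      (by rw [hz, map_add, hp2, memWm.1 hw, map_neg, add_comm (pz u)]) (horth x hxp w hw)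
      (horth y hyp w hw) hu0
    have h2 := (memWp.1 (hspanP h1)).symm.trans (memWm.1 hw)
    rw [← add_eq_zero_iff_eq_neg, ← two_smul F w] at h2
    exact hw0 ((smul_eq_zero.1 h2).resolve_left T.h2)
  have hVm_eq : Vm = tn τ Wp := by
    refine le_antisymm (fun v hv => ?_) (tn_le fun a w hw => hmemV.2 (by
      rw [hz, hpm, memWp.1 hw, map_neg, LinearMap.neg_apply]))
    have hmem : ∀ v, v - z.val *ᵥ v ∈ tn τ Wp := by
      intro v
      refine (?_ : (⊤ : Submodule F (ι → F)) ≤
        (tn τ Wp).comap (LinearMap.id - Matrix.mulVecLin z.val)) (Submodule.mem_top : v ∈ ⊤)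
      rw [← T.span, Submodule.span_le]
      rintro _ ⟨⟨a, w⟩, rfl⟩
      show τ a w - z.val *ᵥ τ a w ∈ tn τ Wp
      rw [hz, hpm, map_neg, LinearMap.neg_apply, sub_neg_eq_add, ← map_add]
      exact tau_mem_tn a ((Wp.smul_mem_iff (inv_ne_zero T.h2)).1 (hWp' w))
    have h1 := hmem v
    rw [hmemV.1 hv, sub_neg_eq_add, ← two_smul F v] at h1
    exact ((tn τ Wp).smul_mem_iff T.h2).1 h1
  have hdV : finrank F Vm = Fintype.card κ * 4 := by rw [hVm_eq, finrank_tn T, hWp4]
  have hrg : Vm.map N = LinearMap.range N :=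
    Submodule.eq_of_le_of_finrank_le LinearMap.map_le_range (by
      show finrank F (LinearMap.range N) ≤ _
      rw [hrank]
      omega)
  refine ⟨Wm, fun w hw => mem_fixW.2 fun a => ?_, by omega, fun s hs => horth x hxp s hs⟩
  have h1 : z.val *ᵥ τ a w = τ a w := by
    rw [hz, hpm, memWm.1 hw, map_neg, map_neg, LinearMap.neg_apply, neg_neg]
  obtain ⟨v, hv, e⟩ := hrg.symm.le (LinearMap.mem_range_self N (τ a w))
  have h3 : z.val *ᵥ N (τ a w) = -N (τ a w) := by
    rw [← e, ← hcN, hmemV.1 hv, map_neg]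
  rw [← hcN, h1, ← add_eq_zero_iff_eq_neg, ← two_smul F (N (τ a w))] at h3
  exact sub_eq_zero.1 ((smul_eq_zero.1 h3).resolve_left T.h2)

/-- The group acts factorwise. -/
theorem pure_all [Finite F] (hlose : Losing T L) (hL : Over T L) (hR : Ranks α μ) {h : GL ι F}
    (hh : h ∈ L) : Pure τ h := by
  by_contra hhp
  obtain ⟨p, hp⟩ := CharP.exists F
  haveI := hp
  haveI : Fact p.Prime := ⟨(CharP.char_is_prime_or_zero F p).resolve_right fun e => by
    subst e
    haveI := CharP.charP_to_charZero F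
    exact not_finite F⟩
  have hk := hR.hk
  have htopk : 3 ≤ finrank F (⊤ : Submodule F (μ → F)) := by
    rw [finrank_top, finrank_fintype_fun_eq_card]; omega
  obtain ⟨x₀, -, hx₀0, hx₀⟩ := Sing.exists_singular T.SW.smul T.SW.polar _ htopk
  obtain ⟨y₀, P₀⟩ := exists_plane T hk hx₀ hx₀0
  set a' := rootA T x₀ y₀
  set b := h * a' * h⁻¹ with hbdef
  have hbL : b ∈ L := mul_mem (mul_mem hh (rootA_mem T hL P₀)) (inv_mem hh)
  have hbp : ¬ Pure τ b := fun e => hhp (pure_of_conj T hlose hL hR hh P₀ e)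
  have hconj : ∀ v, (opHom b - 1 : Module.End F (ι → F)) (h.val *ᵥ v)
      = h.val *ᵥ (opHom a' - 1 : Module.End F (ι → F)) v := fun v => by
    simp [hbdef, opHom_apply, mul_act, inv_act, Matrix.mulVec_sub]
  set N : Module.End F (ι → F) := opHom b - 1 with hNdef
  have hb2 : N * N = 0 := LinearMap.ext fun v => by
    rw [← act_inv h v, Module.End.mul_apply, hconj, hconj, ← Module.End.mul_apply,
      show (opHom a' - 1) * (opHom a' - 1) = 0 from rootA_sq T P₀, LinearMap.zero_apply,
      Matrix.mulVec_zero, LinearMap.zero_apply]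
  have hrank : finrank F (LinearMap.range N) = Fintype.card κ * 2 := by
    have hre : LinearMap.range N =
        (LinearMap.range (opHom a' - 1)).map (Matrix.mulVecLin h.val) := by
      refine le_antisymm ?_ ?_
      · rintro _ ⟨v, rfl⟩
        exact ⟨_, ⟨(h⁻¹ : GL ι F).val *ᵥ v, rfl⟩, by
          rw [Matrix.mulVecLin_apply, ← hconj, act_inv]⟩
      · rintro _ ⟨_, ⟨v, rfl⟩, rfl⟩
        exact ⟨h.val *ᵥ v, hconj v⟩
    rw [hre, ← LinearEquiv.finrank_eq (Submodule.equivMapOfInjective _ (Orth.act_injective h) _),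
      rootA_range T P₀, finrank_tn T, P₀.finrank]
  set S := fixW τ b
  have haniso : ∀ s ∈ S, qf β s = 0 → s = 0 := by
    intro s hs hQs
    by_contra hs0
    obtain ⟨r, hr⟩ := lift_of_fix T hlose hL hR hbL hQs hs0 fun u => mem_fixW.1 hs u
    refine hbp ⟨1, ?_⟩
    have hinj : Function.Injective r := fun v w e => by
      obtain ⟨u₀, hu₀⟩ := T.exists_aniso_left (by have := hR.hm; omega)
      have hu₀0 : u₀ ≠ 0 := fun e => hu₀ (by simp [e])
      refine T.swap.tau_inj hu₀0 (Orth.act_injective b ?_)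
      show b.val *ᵥ τ u₀ v = b.val *ᵥ τ u₀ w
      rw [hr, hr, e]
    obtain ⟨qG, hqG⟩ := exists_gl hinj
    exact ⟨qG, fun a w => by rw [hr, hqG, Units.val_one, Matrix.one_mulVec]⟩
  have hS2 : finrank F S ≤ 2 := by
    by_contra hS
    obtain ⟨s, hs, hs0, hQs⟩ := Sing.exists_singular T.SW.smul T.SW.polar S (by omega)
    exact hs0 (haniso s hs hQs)
  obtain ⟨W₀, hW₀S, hW₀dim, -⟩ : ∃ W', W' ≤ S ∧ finrank F W' + 4 = Fintype.card μ ∧ _ :=
    plane_split T hlose hL hR p P₀ hbL hbp hb2 hrank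
  have hmono := Submodule.finrank_mono hW₀S
  by_cases heq : finrank F S + 4 = Fintype.card μ
  · -- every singular vector is perpendicular to the fixed space
    have hperp : ∀ x, qf β x = 0 → x ≠ 0 → ∀ s ∈ S, β x s = 0 := by
      intro x hx hx0 s hs
      obtain ⟨y, P⟩ := exists_plane T hk hx hx0
      obtain ⟨W', hW', hdim, hW'x⟩ : ∃ W', W' ≤ S ∧ finrank F W' + 4 = Fintype.card μ ∧ _ :=
        plane_split T hlose hL hR p P hbL hbp hb2 hrank
      exact hW'x s ((Submodule.eq_of_le_of_finrank_le hW' (by omega)).symm ▸ hs)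
    have hS0 : S = ⊥ := eq_bot_iff.2 fun s hs => (Submodule.mem_bot F).2 <| T.nβ s fun w => by
      have hle : (⊤ : Submodule F (μ → F)) ≤ LinearMap.ker (β s) :=
        (span_sing T.SW T.SW.ndeg_top htopk).trans (Submodule.span_le.2 fun v hv => by
          rcases eq_or_ne v 0 with rfl | hv0
          · simp
          · show β s v = 0
            rw [T.sβ]; exact hperp v hv.2 hv0 s hs)
      exact LinearMap.mem_ker.1 (hle trivial)
    rw [hS0, finrank_bot] at heq
    omega
  · -- the image of `b - 1` is too large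
    have hk5 : Fintype.card μ = 5 := by omega
    have hSd : finrank F S = 2 := by omega
    have sN := skew_of_sq_zero T.space (hL.le hbL) hb2
    set R := LinearMap.range N
    have hNfix : ∀ v ∈ tn τ S, N v = 0 := fun v hv => LinearMap.mem_ker.1 <|
      (tn_le (τ := τ) (X := LinearMap.ker N) fun a s hs => LinearMap.mem_ker.2 (by
        simp [hNdef, opHom_apply, mem_fixW.1 hs a])) hv
    have hRS : ∀ r ∈ R, ∀ v ∈ tn τ S, B r v = 0 := by
      rintro _ ⟨v', rfl⟩ v hv
      rw [sN, hNfix v hv, map_zero, neg_zero]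
    have hRR : ∀ r ∈ R, ∀ v ∈ R, B r v = 0 := by
      rintro _ ⟨v', rfl⟩ _ ⟨w', rfl⟩
      rw [sN, ← Module.End.mul_apply, hb2, LinearMap.zero_apply, map_zero, neg_zero]
    have hdisj : R ⊓ tn τ S = ⊥ := eq_bot_iff.2 fun v hv => (Submodule.mem_bot F).2 <|
      T.swap.eq_of_ctr fun c => by
        rw [map_zero]
        by_contra hne
        have hmem := ctr_mem_of_tn T hv.2 c
        refine hne (haniso _ hmem (T.qf_zero.2 ?_))
        rw [T.swap.α_ctr, LinearMap.flip_apply]
        exact hRS v hv.1 _ (tau_mem_tn c hmem)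
    let Ψ : (ι → F) →ₗ[F] Module.Dual F R := R.dualRestrict ∘ₗ B
    have hsurj : Function.Surjective Ψ := by
      intro φ
      obtain ⟨φ', hφ'⟩ := Subspace.dualRestrict_surjective (W := R) φ
      have hnd : B.Nondegenerate := ⟨fun v h => T.space.nondeg' h, fun v h => T.space.nondeg v h⟩
      refine ⟨(B.toDual hnd).symm φ', ?_⟩
      refine LinearMap.ext fun r => ?_
      show B _ (r : ι → F) = φ r
      rw [LinearMap.BilinForm.apply_toDual_symm_apply, ← hφ']
      rfl
    have h1 := Ψ.finrank_range_add_finrank_ker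
    rw [LinearMap.range_eq_top.2 hsurj, finrank_top, Subspace.dual_finrank_eq, hrank,
      finrank_fintype_fun_eq_card, card_eq T, hk5] at h1
    have hle : R ⊔ tn τ S ≤ LinearMap.ker Ψ := sup_le
      (fun r hr => LinearMap.mem_ker.2 <| LinearMap.ext fun s => hRR r hr s s.2)
      (fun v hv => LinearMap.mem_ker.2 <| LinearMap.ext fun s => by
        show B v (s : ι → F) = 0
        rw [T.space.symm]; exact hRS s s.2 v hv)
    have h2 := Submodule.finrank_mono hle
    have h3 := Submodule.finrank_sup_add_finrank_inf_eq R (tn τ S)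
    rw [hdisj, finrank_bot, hrank, finrank_tn T, hSd] at h3
    have := hR.hm
    omega

end Cfsg.Lib.Linear.OOTensor
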