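import Cfsg.Agent.Lib.Linear.OOTensor.Main
import Cfsg.Agent.Lib.Linear.SpOTensor.Max
import Cfsg.Agent.Lib.Linear.AschOrth.EvenNot

/-!
# The stabiliser of orthogonal times orthogonal is maximal in the orthogonal group
-/

set_option autoImplicit false
set_option linter.unusedSectionVars false
set_option linter.unusedSimpArgs false

namespace Cfsg.Lib.Linear.OOTensor

open Module
open scoped Matrix Kronecker commutatorElement
open Cfsg.Lib.Linear.Orth
open Cfsg.Lib.Linear.SpOTensor (tensor tensor_apply span_tensor mem_of_tensor bilin_eq_sum)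

variable {ι κ μ : Type} [Fintype ι] [DecidableEq ι] [Fintype κ] [DecidableEq κ] [Fintype μ]
  [DecidableEq μ] {F : Type*} [Field F] {Q : (ι → F) → F} {B : LinearMap.BilinForm F (ι → F)}
  {α : LinearMap.BilinForm F (κ → F)} {β : LinearMap.BilinForm F (μ → F)}
  {τ : (κ → F) →ₗ[F] (μ → F) →ₗ[F] (ι → F)}

/-- A Siegel element of a factor is a commutator. -/
theorem liftR_mem_comm (T : Ten Q B α β τ) (hk : 3 ≤ Fintype.card μ) {x a : μ → F}
    (hx : qf β x = 0) (ha : β x a = 0) :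
    T.liftR (sGL (qf β) β x a) ∈ ⁅isometryGroup F Q, isometryGroup F Q⁆ := by
  have hS := T.SW
  rcases eq_or_ne x 0 with rfl | hx0
  · rw [SpTensor.sGL_zero_left hS, map_one]
    exact Subgroup.one_mem _
  have key : ∀ d, qf β d ≠ 0 → β x d = 0 →
      T.liftR (sGL (qf β) β x d) ∈ ⁅isometryGroup F Q, isometryGroup F Q⁆ := by
    intro d hd hxd
    set d' := (-(2 : F)⁻¹) • d with hd'
    have hxd' : β x d' = 0 := by rw [hd', map_smul, hxd, smul_zero]
    have hQd' : qf β d' ≠ 0 := by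
      rw [hd', hS.smul]
      exact mul_ne_zero (pow_ne_zero _ (neg_ne_zero.2 (inv_ne_zero T.h2))) hd
    have h1 : rGL (qf β) d' * sGL (qf β) β x d' * (rGL (qf β) d')⁻¹ = sGL (qf β) β x (-d') := by
      rw [sGL_conj hS hx hxd' (rGL_mem hS hQd'), rGL_self hS hQd',
        rGL_fix hS hQd' (by rw [hS.symm]; exact hxd')]
    have hneg : β x (-d') = 0 := by rw [map_neg, hxd', neg_zero]
    have h2 : sGL (qf β) β x d = ⁅rGL (qf β) d', sGL (qf β) β x d'⁆ := by
      rw [commutatorElement_def, h1, SpTensor.sGL_inv' hS hx hxd', sGL_mul hS hx hneg hneg, hd',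
        ← neg_smul, neg_neg, ← add_smul, ← two_mul, mul_inv_cancel₀ T.h2, one_smul]
    rw [h2, map_commutatorElement]
    exact Subgroup.commutator_mem_commutator (T.liftR_mem (rGL_mem hS hQd'))
      (T.liftR_mem (sGL_mem hS hx hxd'))
  obtain ⟨f, H⟩ := exists_hyp hS hS.ndeg_top (Submodule.mem_top : x ∈ ⊤) hx0 hx
  obtain ⟨r, hr, ea⟩ := exists_split hS H a
  obtain ⟨-, hr1, hr2⟩ := mem_perp2.1 hr
  rw [ha, zero_smul, add_zero, add_comm] at ea
  rw [ea, sGL_add_self hS hx hr1]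
  by_cases hQr : qf β r = 0
  swap
  · exact key r hQr hr1
  obtain ⟨z, hz, hQz⟩ := exists_nonsing hS (H.ndeg hS hS.ndeg_top) (perp_ne_bot hS H hk)
  obtain ⟨-, hz1, hz2⟩ := mem_perp2.1 hz
  have hsplit : ∀ w, qf β w ≠ 0 → β x w = 0 → qf β (r + w) ≠ 0 →
      T.liftR (sGL (qf β) β x r) ∈ ⁅isometryGroup F Q, isometryGroup F Q⁆ := by
    intro w hw hxw hrw
    have e : sGL (qf β) β x r = sGL (qf β) β x (r + w) * sGL (qf β) β x (-w) := by
      rw [sGL_mul hS hx (by rw [map_add, hr1, hxw, add_zero]) (by rw [map_neg, hxw, neg_zero]),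
        add_neg_cancel_right]
    rw [e, map_mul]
    exact mul_mem (key _ hrw (by rw [map_add, hr1, hxw, add_zero]))
      (key _ (by rwa [hS.neg]) (by rw [map_neg, hxw, neg_zero]))
  by_cases hp : qf β (r + z) = 0
  · refine hsplit (-z) (by rwa [hS.neg]) (by rw [map_neg, hz1, neg_zero]) fun hm => hQz ?_
    rw [hS.add, hQr] at hp hm
    rw [hS.neg, map_neg] at hm
    have : (2 : F) * qf β z = 0 := by linear_combination hp + hm
    exact (mul_eq_zero.1 this).resolve_left T.h2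
  · exact hsplit z hQz hz1 hp

/-- The stabiliser is maximal. -/
theorem maximal [Fintype F] {n₁ n₂ : ℕ} (e : ι ≃ Fin n₁ × Fin n₂) (P : GL ι F)
    (hQ : Cfsg.Geo.IsNondegenerateQuadraticForm Q) (hodd : Odd (Fintype.card F))
    {f₁ : (Fin n₁ → F) → (Fin n₁ → F) → F} {f₂ : (Fin n₂ → F) → (Fin n₂ → F) → F}
    (hf₁ : Cfsg.Geo.IsSymmetricForm f₁) (hf₂ : Cfsg.Geo.IsSymmetricForm f₂)
    (hT : Cfsg.Geo.IsTensorFormStructure id (QuadraticMap.polar Q) f₁ f₂ e P)
    (h3 : 3 ≤ n₁) (h5 : 5 ≤ n₂) (hlt : n₁ < n₂) (hpar : Odd n₁ ∨ Odd n₂)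
    (hq : ¬ (Fintype.card F = 3 ∧ n₁ = 3))
    (hU : 5 ≤ n₁ ∨ ∀ a b, f₁ a a = 0 → f₁ b b = 0 → f₁ a b = 0 → a ≠ 0 →
      b ∈ Submodule.span F {a}) :
    Cfsg.Geo.IsMaximalIn (Cfsg.Geo.omegaGL Q)
      (Cfsg.Geo.tensorProductSubgroup n₁ n₂ e P ⊓ Cfsg.Geo.omegaGL Q) := by
  classical
  obtain ⟨B, C⟩ := exists_space hQ
  obtain ⟨c, hc0, hc⟩ := hT
  have hn : Fintype.card ι = n₁ * n₂ := by simpa using Fintype.card_congr e
  have h15 := Nat.mul_le_mul h3 h5
  have h2 : (2 : F) ≠ 0 := two_ne_zero_of_odd_card hodd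
  let α₁ : LinearMap.BilinForm F (Fin n₁ → F) := LinearMap.mk₂ F f₁ hf₁.bilinear.add_left
    hf₁.bilinear.smul_left hf₁.bilinear.add_right hf₁.bilinear.smul_right
  let β : LinearMap.BilinForm F (Fin n₂ → F) := LinearMap.mk₂ F f₂ hf₂.bilinear.add_left
    hf₂.bilinear.smul_left hf₂.bilinear.add_right hf₂.bilinear.smul_right
  have T : Ten Q B (c • α₁) β (tensor e P) := by
    refine ⟨h2, C, fun v hv => ?_, fun a b => ?_, fun v hv => ?_, hf₂.symm, fun a x b y => ?_,
      span_tensor e P⟩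
    · by_contra hne
      obtain ⟨x, hx⟩ := (hf₁.nondegenerate v hne).2
      exact mul_ne_zero hc0 hx (hv x)
    · show c * f₁ a b = c * f₁ b a
      rw [hf₁.symm]
    · by_contra hne
      obtain ⟨x, hx⟩ := (hf₂.nondegenerate v hne).2
      exact hx (hv x)
    rw [← C.polar]
    show QuadraticMap.polar Q
      ((P : Matrix ι ι F) *ᵥ ((fun p : Fin n₁ × Fin n₂ => a p.1 * x p.2) ∘ e))
      ((P : Matrix ι ι F) *ᵥ ((fun p : Fin n₁ × Fin n₂ => b p.1 * y p.2) ∘ e)) = _
    rw [hc, LinearMap.smul_apply, LinearMap.smul_apply, smul_eq_mul, bilin_eq_sum α₁, bilin_eq_sum β,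
      mul_assoc]
    congr 1
    simp only [Cfsg.Geo.formOfGram, Fintype.sum_prod_type, Finset.sum_mul, Finset.mul_sum, id_eq,
      Matrix.kroneckerMap_apply, Cfsg.Geo.gramMatrix]
    rw [Finset.sum_comm]
    refine Finset.sum_congr rfl fun p _ => ?_
    refine Eq.trans (Finset.sum_congr rfl fun i _ => Finset.sum_comm) ?_
    rw [Finset.sum_comm]
    refine Finset.sum_congr rfl fun q _ => Finset.sum_congr rfl fun i _ =>
      Finset.sum_congr rfl fun j _ => ?_
    simp only [α₁, β, LinearMap.mk₂_apply]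
    ring
  have hR : Ranks (c • α₁) (Fin n₂) := by
    refine ⟨by simpa, by simpa, by simpa, ?_, ?_, by simpa⟩
    · refine hU.imp (fun h => by simpa) fun h a b ha hb hab ha0 => ?_
      have hz : ∀ v, qf (c • α₁) v = 0 → f₁ v v = 0 := fun v hv => by
        simpa [qf, h2, hc0, α₁] using hv
      refine h a b (hz a ha) (hz b hb) ?_ ha0
      simpa [α₁, hc0] using hab
    · by_cases hn : n₁ = 3
      swap
      · exact Or.inl (by simp; omega)
      refine Or.inr ?_
      by_contra hcon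
      push Not at hcon
      have hall : ∀ s : F, s ∈ ({0, 1, -1} : Finset F) := fun s => by
        rcases eq_or_ne s 0 with rfl | hs
        · simp
        have h4 : (s - 1) * (s + 1) = 0 := by linear_combination hcon s hs
        rcases mul_eq_zero.1 h4 with h | h
        · simp [sub_eq_zero.1 h]
        · simp [eq_neg_of_add_eq_zero_left h]
      have hle : Fintype.card F ≤ 3 :=
        (Finset.card_le_card (fun s _ => hall s : (Finset.univ : Finset F) ⊆ _)).trans
          Finset.card_le_three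
      have h1 : 1 < Fintype.card F := Fintype.one_lt_card
      obtain ⟨t, ht⟩ := hodd
      exact hq ⟨by omega, hn⟩
  set T₀ := Cfsg.Geo.tensorProductSubgroup n₁ n₂ e P
  have hΩ : Cfsg.Geo.omegaGL Q = Root Q B ⊤ := omegaGL_eq C (by omega)
  have hcomm : Cfsg.Geo.omegaGL Q = ⁅isometryGroup F Q, isometryGroup F Q⁆ := by
    rw [Cfsg.Geo.omegaGL, Subgroup.map_subtype_commutator]
  have hinj : ∀ {n : ℕ} (g : GL (Fin n) F), Function.Injective (Matrix.mulVecLin g.val) :=
    fun g => Orth.act_injective g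
  refine ⟨lt_of_le_of_ne inf_le_right fun h => ?_, fun M hM hMΩ => ?_⟩
  · refine AschOrth.not_omega_le_tensor C (by omega) (by omega) (by omega) ?_ (h ▸ inf_le_left)
    rw [hn]
    nlinarith
  have hOver : Over T M := by
    refine ⟨hMΩ.trans (hΩ ▸ root_le_iso C ⊤), fun x a hx ha => hM ⟨?_, ?_⟩,
      fun u a hu hua => hM ⟨?_, ?_⟩⟩
    · exact mem_of_tensor e P LinearMap.id (Matrix.mulVecLin (sGL (qf β) β x a).val)
        Function.injective_id (hinj _) fun b w => T.liftR_act _ b w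
    · rw [SetLike.mem_coe, hcomm]
      exact liftR_mem_comm T (by simp; omega) hx ha
    · exact mem_of_tensor e P (Matrix.mulVecLin (sGL (qf (c • α₁)) (c • α₁) u a).val) LinearMap.id
        (hinj _) Function.injective_id fun b w => T.liftL_act _ b w
    · rw [SetLike.mem_coe, hcomm]
      exact liftR_mem_comm T.swap (by simp; omega) hu hua
  by_cases hlose : Losing T M
  · refine Or.inl (le_antisymm (le_inf (fun g hg => ?_) hMΩ) hM)
    obtain ⟨p, q, hpq⟩ := pure_all T hlose hOver hR hg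
    exact mem_of_tensor e P (Matrix.mulVecLin p.val) (Matrix.mulVecLin q.val) (hinj _) (hinj _)
      fun a x => hpq a x
  · exact Or.inr (le_antisymm hMΩ (hΩ ▸ root_le_of_win T hR hOver hlose))

end Cfsg.Lib.Linear.OOTensor
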