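import Cfsg.Agent.Lib.Linear.OrthBasic
import Cfsg.Agent.Lib.Linear.DicksonTwo

/-!
# Two quadratic isometries

In odd characteristic the involutions of the group generated by two quadratic isometries are
central, and there is one unless the group is a `p`-group.
-/

set_option autoImplicit false
set_option linter.unusedSectionVars false
set_option linter.unusedSimpArgs false
set_option linter.style.haveILetI false

namespace Cfsg.Lib.Linear.OOTensor

open Module Polynomial
open scoped Matrix MatrixGroups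
open Cfsg.Lib.Linear.Orth
open Cfsg.Lib.Linear.Dickson (tU tL)

variable {ι : Type} [Fintype ι] [DecidableEq ι] {F : Type*} [Field F]

/-- The operator of an element. -/
noncomputable def opHom : GL ι F →* Module.End F (ι → F) where
  toFun g := Matrix.mulVecLin g.val
  map_one' := LinearMap.ext fun v => by simp
  map_mul' g h := LinearMap.ext fun v => by simp [Module.End.mul_apply, mul_act]

theorem opHom_apply (g : GL ι F) (v : ι → F) : opHom g v = g.val *ᵥ v := rfl

theorem opHom_injective : Function.Injective (opHom : GL ι F → Module.End F (ι → F)) :=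
  fun _ _ h => Orth.gl_ext fun v => LinearMap.congr_fun h v

variable {M N : Module.End F (ι → F)}

/-- An element of the algebra generated by two square zero maps. -/
noncomputable def lc (M N : Module.End F (ι → F)) (P₀ P₁ P₂ P₃ : F[X]) : Module.End F (ι → F) :=
  aeval (M * N + N * M) P₀ + aeval (M * N + N * M) P₁ * M + aeval (M * N + N * M) P₂ * N +
    aeval (M * N + N * M) P₃ * (M * N)

theorem aeval_comm {T X : Module.End F (ι → F)} (h : Commute T X) (P : F[X]) :
    Commute (aeval T P) X := by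
  induction P using Polynomial.induction_on' with
  | add p q hp hq => rw [map_add]; exact hp.add_left hq
  | monomial n c =>
    rw [aeval_monomial]
    exact Commute.mul_left (Algebra.commute_algebraMap_left c X) (h.pow_left n)

variable (hM : M * M = 0) (hN : N * N = 0)
include hM hN

theorem commute_T : Commute (M * N + N * M) M ∧ Commute (M * N + N * M) N := by
  constructor
  · show (M * N + N * M) * M = M * (M * N + N * M)
    rw [add_mul, mul_add, mul_assoc N M M, hM, mul_zero, add_zero, ← mul_assoc M M N, hM, zero_mul,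
      zero_add, mul_assoc]
  · show (M * N + N * M) * N = N * (M * N + N * M)
    rw [add_mul, mul_add, mul_assoc M N N, hN, mul_zero, zero_add, ← mul_assoc N N M, hN, zero_mul,
      add_zero, mul_assoc]

theorem nmn : N * (M * N) = (M * N + N * M) * N := by
  rw [add_mul, mul_assoc M N N, hN, mul_zero, zero_add, mul_assoc]

theorem mnm : M * (N * M) = (M * N + N * M) * M := by
  rw [add_mul, mul_assoc N M M, hM, mul_zero, add_zero, mul_assoc]

theorem left_M (P₀ P₁ P₂ P₃ : F[X]) (c : F) :
    (1 + c • M) * lc M N P₀ P₁ P₂ P₃ = lc M N P₀ (P₁ + C c * P₀) P₂ (P₃ + C c * P₂) := by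
  have cM : ∀ P : F[X], M * aeval (M * N + N * M) P = aeval (M * N + N * M) P * M := fun P =>
    ((aeval_comm (commute_T hM hN).1 P).eq).symm
  simp only [lc, map_add, map_mul, aeval_C, Algebra.algebraMap_eq_smul_one, add_mul, mul_add,
    one_mul, smul_mul_assoc, ← mul_assoc M (aeval (M * N + N * M) _), cM]
  simp only [mul_assoc, hM, ← mul_assoc M M N, zero_mul, mul_zero, smul_zero, add_zero]
  abel

theorem left_N (P₀ P₁ P₂ P₃ : F[X]) (c : F) :
    (1 + c • N) * lc M N P₀ P₁ P₂ P₃ =
      lc M N (P₀ + C c * (P₁ * X)) P₁ (P₂ + C c * (P₀ + P₃ * X)) (P₃ - C c * P₁) := by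
  have cN : ∀ P : F[X], N * aeval (M * N + N * M) P = aeval (M * N + N * M) P * N := fun P =>
    ((aeval_comm (commute_T hM hN).2 P).eq).symm
  have e1 : N * M = (M * N + N * M) - M * N := by abel
  simp only [lc, map_add, map_sub, map_mul, aeval_C, aeval_X, Algebra.algebraMap_eq_smul_one,
    add_mul, sub_mul, mul_add, one_mul, smul_mul_assoc, ← mul_assoc N (aeval (M * N + N * M) _), cN,
    smul_add]
  simp only [mul_assoc, hN, mul_zero, smul_zero, add_zero]
  conv_lhs => rw [nmn hM hN]
  simp only [add_mul, mul_add, smul_add, mul_assoc, hN, mul_zero, smul_zero, zero_add, add_zero]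
  abel

/-- The relation between a map and a matrix. -/
def Rep (M N : Module.End F (ι → F)) {K : Type*} [Field K] [Algebra F K] (l : K)
    (g : Module.End F (ι → F)) (A : SL(2, K)) : Prop :=
  ∃ P₀ P₁ P₂ P₃ : F[X], g = lc M N P₀ P₁ P₂ P₃ ∧ P₀.eval 0 = 1 ∧
    A 0 0 = aeval l P₀ + aeval l P₃ * l ∧ A 0 1 = aeval l P₁ ∧ A 1 0 = aeval l P₂ * l ∧
      A 1 1 = aeval l P₀

section Rep

variable {K : Type*} [Field K] [Algebra F K] (l : K)

theorem rep_one : Rep M N l 1 (1 : SL(2, K)) :=
  ⟨1, 0, 0, 0, by simp [lc], by simp, by simp, by simp, by simp, by simp⟩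

theorem rep_M {g : Module.End F (ι → F)} {A : SL(2, K)} (h : Rep M N l g A) (c : F) :
    Rep M N l ((1 + c • M) * g) (tU (algebraMap F K c) * A) := by
  obtain ⟨P₀, P₁, P₂, P₃, hg, h0, a, b, c', d⟩ := h
  refine ⟨P₀, P₁ + Polynomial.C c * P₀, P₂, P₃ + Polynomial.C c * P₂,
    by rw [hg, left_M hM hN], h0, ?_, ?_, ?_, ?_⟩ <;>
    simp only [Dickson.mul_apply', Dickson.tU_coe, a, b, c', d, map_add, map_mul, aeval_C,
      Matrix.of_apply, Matrix.cons_val', Matrix.cons_val_zero, Matrix.cons_val_one,
      Matrix.cons_val_fin_one] <;> ring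

theorem rep_N {g : Module.End F (ι → F)} {A : SL(2, K)} (h : Rep M N l g A) (c : F) :
    Rep M N l ((1 + c • N) * g) (tL (algebraMap F K c * l) * A) := by
  obtain ⟨P₀, P₁, P₂, P₃, hg, h0, a, b, c', d⟩ := h
  refine ⟨P₀ + Polynomial.C c * (P₁ * X), P₁, P₂ + Polynomial.C c * (P₀ + P₃ * X),
    P₃ - Polynomial.C c * P₁, by rw [hg, left_N hM hN], by simp [h0], ?_, ?_, ?_, ?_⟩ <;>
    simp only [Dickson.mul_apply', Dickson.tL_coe, a, b, c', d, map_add, map_sub, map_mul, aeval_C,
      aeval_X, Matrix.of_apply, Matrix.cons_val', Matrix.cons_val_zero, Matrix.cons_val_one,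
      Matrix.cons_val_fin_one] <;> ring

/-- The matrix is determined by the map. -/
theorem rep_unique (hl : l ≠ 0)
    (hker : ∀ P : F[X], aeval (M * N + N * M) P = 0 → aeval l P = 0) {A : SL(2, K)}
    (h : Rep M N l 1 A) : A = 1 := by
  obtain ⟨P₀, P₁, P₂, P₃, hg, -, a, b, c, d⟩ := h
  set T := M * N + N * M with hT
  have cM : ∀ P : F[X], M * aeval T P = aeval T P * M := fun P =>
    ((aeval_comm (commute_T hM hN).1 P).eq).symm
  have cN : ∀ P : F[X], N * aeval T P = aeval T P * N := fun P =>
    ((aeval_comm (commute_T hM hN).2 P).eq).symm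
  have h0 : lc M N (P₀ - 1) P₁ P₂ P₃ = 0 := by
    have h1 := hg.symm
    simp only [lc, map_sub, map_one] at h1 ⊢
    linear_combination (norm := abel) h1
  simp only [lc, ← hT] at h0
  have kill : ∀ P : F[X], aeval T P * (M * N) = 0 → aeval T P * (N * M) = 0 → aeval l P = 0 := by
    intro P h1 h2
    have h3 : aeval T (P * X) = 0 := by
      rw [map_mul, aeval_X, hT, mul_add, h1, h2, add_zero]
    have h4 := hker _ h3
    rw [map_mul, aeval_X] at h4
    exact (mul_eq_zero.1 h4).resolve_right hl
  have killT : ∀ P : F[X], aeval T (P * X) * (M * N) = 0 → aeval T (P * X) * (N * M) = 0 →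
      aeval l P = 0 := fun P h1 h2 => by
    have h4 := kill _ h1 h2
    rw [map_mul, aeval_X] at h4
    exact (mul_eq_zero.1 h4).resolve_right hl
  have killM : ∀ P : F[X], aeval T P * (T * M) = 0 → aeval l P = 0 := fun P h1 => by
    refine killT P ?_ ?_
    · rw [map_mul, aeval_X, mul_assoc (aeval T P), ← mul_assoc T M N, ← mul_assoc, h1, zero_mul]
    · have h5 : N * (aeval T P * (T * M)) = 0 := by rw [h1, mul_zero]
      rw [← mul_assoc, cN, mul_assoc, ← mul_assoc N T M, ← (commute_T hM hN).2.eq, mul_assoc] at h5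
      rw [map_mul, aeval_X, mul_assoc]
      exact h5
  have killN : ∀ P : F[X], aeval T P * (T * N) = 0 → aeval l P = 0 := fun P h1 => by
    refine killT P ?_ ?_
    · have h5 : M * (aeval T P * (T * N)) = 0 := by rw [h1, mul_zero]
      rw [← mul_assoc, cM, mul_assoc, ← mul_assoc M T N, ← (commute_T hM hN).1.eq, mul_assoc] at h5
      rw [map_mul, aeval_X, mul_assoc]
      exact h5
    · rw [map_mul, aeval_X, mul_assoc (aeval T P), ← mul_assoc T N M, ← mul_assoc, h1, zero_mul]
  have hQ₀ : aeval l (P₀ - 1) = 0 := by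
    refine killN _ ?_
    have h1 := congrArg (fun g => M * g * N) h0
    simp only [mul_add, add_mul, ← mul_assoc M (aeval T _), cM, mul_assoc, hN, hM,
      ← mul_assoc M M, mul_zero, zero_mul, add_zero] at h1
    have h2 := congrArg (fun g => N * g) h1
    simp only [← mul_assoc N (aeval T _), cN, mul_assoc, nmn hM hN, mul_zero] at h2
    exact h2
  have hQ₂ : aeval l P₂ = 0 := by
    refine killM _ ?_
    have h1 := congrArg (fun g => M * g * M) h0
    simp only [mul_add, add_mul, ← mul_assoc M (aeval T _), cM, mul_assoc, hN, hM,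
      ← mul_assoc M M, mul_zero, zero_mul, add_zero, zero_add] at h1
    rwa [mnm hM hN] at h1
  have hQ₁ : aeval l P₁ = 0 := by
    refine killN _ ?_
    have h1 := congrArg (fun g => N * g * N) h0
    simp only [mul_add, add_mul, ← mul_assoc N (aeval T _), cN, mul_assoc, hN, hM,
      ← mul_assoc N N, mul_zero, zero_mul, add_zero, zero_add] at h1
    rwa [nmn hM hN] at h1
  have hQ₃ : aeval l (P₀ - 1 + P₃ * X) = 0 := by
    refine killM _ ?_
    have h1 := congrArg (fun g => N * g * M) h0
    simp only [mul_add, add_mul, ← mul_assoc N (aeval T _), cN, mul_assoc, hN, hM,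
      ← mul_assoc N N, mul_zero, zero_mul, add_zero, zero_add] at h1
    have h2 := congrArg (fun g => M * g) h1
    simp only [mul_add, ← mul_assoc M (aeval T _), cM, mul_assoc, mul_zero] at h2
    have e : M * (N * (T * M)) = T * (T * M) := by
      rw [← mul_assoc N T M, ← (commute_T hM hN).2.eq, mul_assoc, ← mul_assoc M T,
        ← (commute_T hM hN).1.eq, mul_assoc, mnm hM hN]
    rw [mnm hM hN, ← hT, e] at h2
    rw [map_add, map_mul, aeval_X, add_mul, mul_assoc]
    exact h2
  rw [map_sub, map_one, sub_eq_zero] at hQ₀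
  rw [map_add, map_mul, aeval_X, map_sub, map_one, hQ₀, sub_self, zero_add] at hQ₃
  exact Dickson.ext_two (by simp [a, hQ₀, (mul_eq_zero.1 hQ₃).resolve_right hl])
    (by simp [b, hQ₁]) (by simp [c, hQ₂]) (by simp [d, hQ₀])

end Rep

variable {Q : (ι → F) → F} {B : LinearMap.BilinForm F (ι → F)}

/-- An isometry of the algebra and its inverse. -/
theorem add_inv_eq (C : Space Q B) {g : GL ι F} (hg : g ∈ isometryGroup F Q)
    (sM : ∀ v w, B (M v) w = -B v (M w)) (sN : ∀ v w, B (N v) w = -B v (N w))
    {P₀ P₁ P₂ P₃ : F[X]} (e : opHom g = lc M N P₀ P₁ P₂ P₃) :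
    opHom g + opHom g⁻¹ = aeval (M * N + N * M) (2 * P₀ + P₃ * X) := by
  set T := M * N + N * M with hT
  have hMN : ∀ v w, B ((M * N) v) w = B v ((N * M) w) := fun v w => by
    rw [Module.End.mul_apply, sM, sN, neg_neg, Module.End.mul_apply]
  have hNM : ∀ v w, B ((N * M) v) w = B v ((M * N) w) := fun v w => by
    rw [Module.End.mul_apply, sN, sM, neg_neg, Module.End.mul_apply]
  have hsT : ∀ (P : F[X]) v w, B (aeval T P v) w = B v (aeval T P w) := by
    have hT1 : ∀ v w, B (T v) w = B v (T w) := fun v w => by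
      rw [hT, LinearMap.add_apply, LinearMap.add_apply, map_add, map_add, LinearMap.add_apply, hMN,
        hNM, add_comm]
    have hTn : ∀ (n : ℕ) v w, B ((T ^ n) v) w = B v ((T ^ n) w) := by
      intro n
      induction n with
      | zero => simp
      | succ n ih =>
        intro v w
        conv_lhs => rw [pow_succ, Module.End.mul_apply, ih, hT1]
        rw [pow_succ', Module.End.mul_apply]
    intro P
    induction P using Polynomial.induction_on' with
    | add p q hp hq => intro v w; simp [hp, hq]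
    | monomial n c =>
      intro v w
      simp [aeval_monomial, Algebra.algebraMap_eq_smul_one, hTn]
  have hinv : opHom g⁻¹ = aeval T P₀ - M * aeval T P₁ - N * aeval T P₂ + N * M * aeval T P₃ := by
    refine LinearMap.ext fun w => sub_eq_zero.1 (C.nondeg' fun v => ?_)
    rw [C.symm, map_sub, sub_eq_zero, opHom_apply, ← C.B_act_left hg, ← opHom_apply, e]
    simp only [lc, ← hT, LinearMap.add_apply, LinearMap.sub_apply, map_add, map_sub,
      Module.End.mul_apply]
    rw [hsT, hsT, hsT, hsT, sM, sN, ← Module.End.mul_apply M N, hMN, Module.End.mul_apply]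
    ring
  rw [e, hinv]
  have cM : ∀ P : F[X], M * aeval T P = aeval T P * M := fun P =>
    ((aeval_comm (commute_T hM hN).1 P).eq).symm
  have cN : ∀ P : F[X], N * aeval T P = aeval T P * N := fun P =>
    ((aeval_comm (commute_T hM hN).2 P).eq).symm
  have cNM : N * M * aeval T P₃ = aeval T P₃ * (N * M) := by
    rw [mul_assoc, cM, ← mul_assoc, cN, mul_assoc]
  rw [lc, ← hT, map_add, map_mul, map_mul, aeval_X, map_ofNat, cM, cN, cNM, two_mul]
  nth_rewrite 7 [hT]
  rw [mul_add]
  abel

omit hM hN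

theorem mul_one_sub_eq {R : Type*} [Ring R] {x : R} (h : (x - 1) * (x - 1) = 0) :
    x * (1 - (x - 1)) = 1 := by
  have e : x * (1 - (x - 1)) = 1 - (x - 1) * (x - 1) := by
    simp only [mul_sub, sub_mul, mul_one, one_mul]
    abel
  rw [e, h, sub_zero]

theorem skew_of_sq_zero (C : Space Q B) {a : GL ι F} (ha : a ∈ isometryGroup F Q)
    (hsq : (opHom a - 1) * (opHom a - 1) = 0) (v w : ι → F) :
    B ((opHom a - 1 : Module.End F (ι → F)) v) w = -B v ((opHom a - 1 : Module.End F (ι → F)) w) := by
  have h1 := C.B_act_left ha v w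
  have h2 : opHom a⁻¹ = 1 - (opHom a - 1) := by
    refine left_inv_eq_right_inv (a := opHom a) (by rw [← map_mul, inv_mul_cancel, map_one]) ?_
    exact mul_one_sub_eq hsq
  rw [← opHom_apply, ← opHom_apply, h2] at h1
  rw [LinearMap.sub_apply, map_sub, LinearMap.sub_apply, h1]
  simp

/-- The group generated by two quadratic isometries. -/
theorem exists_central_involution [Finite F] (C : Space Q B) (h2 : (2 : F) ≠ 0) (p : ℕ)
    [Fact p.Prime] [CharP F p] {a b : GL ι F} (ha : a ∈ isometryGroup F Q)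
    (hb : b ∈ isometryGroup F Q) (ha2 : (opHom a - 1) * (opHom a - 1) = 0)
    (hb2 : (opHom b - 1) * (opHom b - 1) = 0)
    (hnp : ¬ IsPGroup p (Subgroup.closure {a, b} : Subgroup (GL ι F))) :
    ∃ z ∈ Subgroup.closure {a, b}, z * z = 1 ∧ z ≠ 1 ∧ z * a = a * z ∧ z * b = b * z := by
  classical
  set X₀ : Subgroup (GL ι F) := Subgroup.closure {a, b} with hX₀
  set M : Module.End F (ι → F) := opHom a - 1 with hMdef
  set N : Module.End F (ι → F) := opHom b - 1 with hNdef
  set T := M * N + N * M with hT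
  have sM := skew_of_sq_zero C ha ha2
  have sN := skew_of_sq_zero C hb hb2
  have hle : X₀ ≤ isometryGroup F Q :=
    (Subgroup.closure_le _).2 (Set.insert_subset ha (Set.singleton_subset_iff.2 hb))
  have hainv : opHom a⁻¹ = 1 + (-1 : F) • M := by
    refine left_inv_eq_right_inv (a := opHom a) (by rw [← map_mul, inv_mul_cancel, map_one]) ?_
    rw [show (-1 : F) • M = -M from neg_one_smul F M, ← sub_eq_add_neg]
    exact mul_one_sub_eq ha2
  have hbinv : opHom b⁻¹ = 1 + (-1 : F) • N := by
    refine left_inv_eq_right_inv (a := opHom b) (by rw [← map_mul, inv_mul_cancel, map_one]) ?_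
    rw [show (-1 : F) • N = -N from neg_one_smul F N, ← sub_eq_add_neg]
    exact mul_one_sub_eq hb2
  have haop : opHom a = 1 + (1 : F) • M := by rw [hMdef, one_smul, add_sub_cancel]
  have hbop : opHom b = 1 + (1 : F) • N := by rw [hNdef, one_smul, add_sub_cancel]
  let K := AlgebraicClosure F
  -- every element is in the algebra, with a matrix
  have hrep : ∀ (l : K) (g : GL ι F × SL(2, K)),
      g ∈ Subgroup.closure {(a, tU (1 : K)), (b, tL l)} → Rep M N l (opHom g.1) g.2 := by
    intro l g hg
    induction hg using Subgroup.closure_induction_left with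
    | one => simpa using rep_one (M := M) (N := N) ha2 hb2 l
    | mul_left x hx y _ ih =>
      rcases hx with rfl | rfl
      · simpa [haop] using rep_M ha2 hb2 l ih 1
      · simpa [hbop] using rep_N ha2 hb2 l ih 1
    | inv_mul_cancel x hx y _ ih =>
      rcases hx with rfl | rfl
      · simpa [hainv, Dickson.tU_inv] using rep_M ha2 hb2 l ih (-1)
      · have e : (tL l)⁻¹ = tL (-l) :=
          inv_eq_of_mul_eq_one_right (by rw [Dickson.tL_mul, add_neg_cancel, Dickson.tL_zero])
        have h7 := rep_N ha2 hb2 l ih (-1)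
        rw [map_neg, map_one, neg_one_mul] at h7
        simpa [hbinv, e] using h7
  have hfst : ∀ l : K, X₀ = (Subgroup.closure {(a, tU (1 : K)), (b, tL l)}).map
      (MonoidHom.fst (GL ι F) SL(2, K)) := fun l => by
    rw [MonoidHom.map_closure, hX₀, Set.image_insert_eq, Set.image_singleton]
    rfl
  have hform : ∀ g ∈ X₀, ∃ P₀ P₁ P₂ P₃ : F[X],
      opHom g = lc M N P₀ P₁ P₂ P₃ ∧ P₀.eval 0 = 1 := by
    intro g hg
    rw [hfst 0] at hg
    obtain ⟨y, hy, rfl⟩ := hg
    obtain ⟨P₀, P₁, P₂, P₃, h1, h2, -⟩ := hrep 0 y hy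
    exact ⟨P₀, P₁, P₂, P₃, h1, h2⟩
  -- `T` is not nilpotent
  have hnil : ¬ IsNilpotent T := by
    intro hTn
    refine hnp fun ⟨g, hg⟩ => ?_
    obtain ⟨P₀, P₁, P₂, P₃, e, h0⟩ := hform g hg
    have h1 := add_inv_eq ha2 hb2 C (hle hg) sM sN e
    obtain ⟨R, hR⟩ : X ∣ (2 * P₀ + P₃ * X - 2) :=
      X_dvd_iff.2 (by rw [coeff_zero_eq_eval_zero]; simp [h0])
    have h3 : (opHom g - 1) * (opHom g - 1) = opHom g * (T * aeval T R) := by
      have h4 : opHom g + opHom g⁻¹ - 2 = T * aeval T R := by
        rw [h1, ← hT, ← map_ofNat (aeval (R := F) T) 2, ← map_sub, hR, map_mul, aeval_X]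
      rw [← h4]
      have h5 : opHom g * opHom g⁻¹ = 1 := by rw [← map_mul, mul_inv_cancel, map_one]
      rw [mul_sub (opHom g), mul_add (opHom g), h5, mul_two]
      simp only [sub_mul, mul_sub, one_mul, mul_one]
      abel
    have hcg : Commute (opHom g) (T * aeval T R) := by
      have hc : Commute (opHom g) (opHom g + opHom g⁻¹ - 2) :=
        ((Commute.refl _).add_right (by
          show _ * _ = _ * _
          rw [← map_mul, ← map_mul, mul_inv_cancel, inv_mul_cancel])).sub_right
          (Commute.ofNat_right _ 2)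
      rwa [h1, ← hT, ← map_ofNat (aeval (R := F) T) 2, ← map_sub, hR, map_mul, aeval_X] at hc
    have hn : IsNilpotent (opHom g - 1) := by
      have h6 : IsNilpotent (opHom g * (T * aeval T R)) :=
        hcg.isNilpotent_mul_left (((aeval_comm (Commute.refl T) R).symm).isNilpotent_mul_right hTn)
      rw [← h3, ← sq] at h6
      obtain ⟨j, hj⟩ := h6
      exact ⟨2 * j, by rw [pow_mul, hj]⟩
    obtain ⟨j, hj⟩ := hn
    refine ⟨j, Subtype.ext (opHom_injective ?_)⟩
    rcases isEmpty_or_nonempty ι with hι | hι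
    · exact LinearMap.ext fun v => Subsingleton.elim _ _
    haveI : CharP (Module.End F (ι → F)) p :=
      charP_of_injective_algebraMap (RingHom.injective (algebraMap F (Module.End F (ι → F)))) p
    have h7 := sub_pow_char_pow_of_commute (p := p) j (Commute.one_right (opHom g))
    rw [one_pow, pow_eq_zero_of_le (Nat.lt_pow_self (Fact.out : p.Prime).one_lt).le hj] at h7
    simp only [Subgroup.coe_pow, Subgroup.coe_one, map_pow, map_one]
    exact sub_eq_zero.1 h7.symm
  -- a non-zero root
  obtain ⟨l, hl, hker⟩ : ∃ l : K, l ≠ 0 ∧ ∀ P : F[X], aeval T P = 0 → aeval l P = 0 := by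
    have hmo := minpoly.ne_zero (Algebra.IsIntegral.isIntegral (R := F) T)
    obtain ⟨R, hR, hRd⟩ := Polynomial.exists_eq_pow_rootMultiplicity_mul_and_not_dvd _ hmo 0
    rw [map_zero, sub_zero] at hR hRd
    by_cases hdeg : R.degree = 0
    · refine absurd ⟨(minpoly F T).rootMultiplicity 0, ?_⟩ hnil
      have h1 := minpoly.aeval F T
      rw [hR, Polynomial.eq_C_of_degree_eq_zero hdeg, map_mul, map_pow, aeval_X, aeval_C,
        ← Algebra.commutes, ← Algebra.smul_def] at h1
      refine (smul_eq_zero.1 h1).resolve_left fun h => hRd ?_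
      rw [Polynomial.eq_C_of_degree_eq_zero hdeg, h, map_zero]
      exact dvd_zero _
    · obtain ⟨l, hl⟩ := IsAlgClosed.exists_aeval_eq_zero K R hdeg
      refine ⟨l, fun h0 => hRd (X_dvd_iff.2 ?_), fun P hP => ?_⟩
      · rw [h0, aeval_def, eval₂_at_zero, map_eq_zero] at hl
        exact hl
      · obtain ⟨S, rfl⟩ := (minpoly.dvd F T hP)
        rw [hR, map_mul, map_mul, hl, mul_zero, zero_mul]
  haveI : CharP K p := charP_of_injective_algebraMap (RingHom.injective (algebraMap F K)) p
  set G := Subgroup.closure {(a, tU (1 : K)), (b, tL l)} with hG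
  have hinj : Function.Injective fun y : G => (y : GL ι F × SL(2, K)).1 := by
    intro y y' h
    have h1 : ((y⁻¹ * y' : G) : GL ι F × SL(2, K)).1 = 1 := by
      simp only at h
      simp [h]
    have h2 := hrep l _ (y⁻¹ * y' : G).2
    rw [h1, map_one] at h2
    have h3 := rep_unique ha2 hb2 l hl hker h2
    exact inv_mul_eq_one.1 (Subtype.ext (Prod.ext h1 h3))
  haveI : Finite G := Finite.of_injective _ hinj
  let snd : G →* SL(2, K) := (MonoidHom.snd _ _).comp G.subtype
  haveI : Finite snd.range := Finite.of_surjective _ snd.rangeRestrict_surjective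
  have hu : tU (1 : K) ∈ snd.range := ⟨⟨(a, tU 1), Subgroup.subset_closure (by simp)⟩, rfl⟩
  have hw : tL l ∈ snd.range := ⟨⟨(b, tL l), Subgroup.subset_closure (by simp)⟩, rfl⟩
  have h2K : (2 : K) ≠ 0 := fun h => h2 ((algebraMap F K).injective (by rw [map_ofNat, map_zero]; exact h))
  have hp2 : p ≠ 2 := fun e => h2 (by
    haveI : CharP F 2 := e ▸ ‹CharP F p›
    exact CharTwo.two_eq_zero)
  obtain ⟨d, hd⟩ := Dickson.exists_SL2_map_le (p := p) hp2 snd.range hu hw (i := 1) (j := 1)
    (by rw [pow_one, Dickson.tU_pow, mul_one, CharP.cast_eq_zero, Dickson.tU_zero])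
    (by rw [pow_one, Dickson.tL_pow, CharP.cast_eq_zero, zero_mul, Dickson.tL_zero])
    (fun hc => hl (by
      have := congrArg (fun A : SL(2, K) => A 0 0) hc.eq
      simpa [Dickson.mul_apply', Dickson.tU_coe, Dickson.tL_coe] using this))
  obtain ⟨A, hA1, hA2⟩ : ∃ A : SL(2, K), A * A = 1 ∧ A ≠ 1 ∧ A ∈ snd.range := by
    haveI : Fact (Even (Fintype.card (Fin 2))) := ⟨by simp⟩
    refine ⟨_, ?_, fun e => ?_, hd (-1)⟩
    · rw [← map_mul, ← map_mul, neg_mul_neg, one_mul, map_one, map_one]
    · have h3 := (map_eq_one_iff _ (Dickson.conjGL_injective d)).1 e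
      have h4 := congrArg (fun A : SL(2, K) => A 0 0) h3
      simp [Dickson.map_apply'] at h4
      exact h2K (by linear_combination -h4)
  obtain ⟨y, rfl⟩ := hA2.2
  obtain ⟨z₀, hz₀⟩ : ∃ z₀ : G, orderOf z₀ = 2 := by
    haveI : Fact (Nat.Prime 2) := ⟨Nat.prime_two⟩
    refine exists_prime_orderOf_dvd_card' 2 (dvd_trans ?_ (orderOf_dvd_natCard y))
    have h6 : orderOf (snd y) = 2 := orderOf_eq_prime (by rw [sq]; exact hA1) hA2.1
    have h7 := orderOf_map_dvd snd y
    rw [h6] at h7
    exact h7
  obtain ⟨hz₁, hz₂⟩ := orderOf_eq_prime_iff.1 hz₀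
  set z := (z₀ : GL ι F × SL(2, K)).1 with hz
  have hzX : z ∈ X₀ := by rw [hfst l]; exact ⟨_, z₀.2, rfl⟩
  have hzz : z * z = 1 := by
    have h5 := congrArg (fun y : G => (y : GL ι F × SL(2, K)).1) hz₁
    rw [sq] at h5
    simpa using h5
  refine ⟨z, hzX, hzz, fun e => hz₂ (hinj (by simpa [hz] using e)), ?_⟩
  obtain ⟨P₀, P₁, P₂, P₃, e, -⟩ := hform z hzX
  have h5 := add_inv_eq ha2 hb2 C (hle hzX) sM sN e
  rw [inv_eq_of_mul_eq_one_right hzz] at h5
  have hz' : opHom z = (2 : F)⁻¹ • aeval T (2 * P₀ + P₃ * X) := by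
    rw [hT, ← h5, ← two_smul F (opHom z), smul_smul, inv_mul_cancel₀ h2, one_smul]
  have hc : ∀ S, Commute T S → opHom z * S = S * opHom z := fun S hS => by
    rw [hz', smul_mul_assoc, mul_smul_comm, (aeval_comm hS _).eq]
  constructor <;> apply opHom_injective <;> rw [map_mul, map_mul]
  · rw [haop, mul_add, add_mul, one_smul, mul_one, one_mul, hc M (commute_T ha2 hb2).1]
  · rw [hbop, mul_add, add_mul, one_smul, mul_one, one_mul, hc N (commute_T ha2 hb2).2]

end Cfsg.Lib.Linear.OOTensor
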