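import Cfsg.Agent.Lib.Linear.OOTensor.Parab
import Cfsg.Agent.Lib.Linear.OOTensor.Pair

/-!
# The root elements of totally singular planes of the second factor
-/

set_option autoImplicit false
set_option linter.unusedSectionVars false
set_option linter.unusedSimpArgs false

namespace Cfsg.Lib.Linear.OOTensor

open Module
open scoped Matrix
open Cfsg.Lib.Linear.Orth

variable {ι κ μ : Type} [Fintype ι] [DecidableEq ι] [Fintype κ] [DecidableEq κ] [Fintype μ]
  [DecidableEq μ] {F : Type*} [Field F] {Q : (ι → F) → F} {B : LinearMap.BilinForm F (ι → F)}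
  {α : LinearMap.BilinForm F (κ → F)} {β : LinearMap.BilinForm F (μ → F)}
  {τ : (κ → F) →ₗ[F] (μ → F) →ₗ[F] (ι → F)} {L : Subgroup (GL ι F)}

/-- The product of the first space with a subspace of the second. -/
def tn (τ : (κ → F) →ₗ[F] (μ → F) →ₗ[F] (ι → F)) (S : Submodule F (μ → F)) : Submodule F (ι → F) :=
  ⨆ a, S.map (τ a)

theorem tau_mem_tn {S : Submodule F (μ → F)} (a : κ → F) {s : μ → F} (hs : s ∈ S) :
    τ a s ∈ tn τ S :=
  Submodule.mem_iSup_of_mem a (Submodule.mem_map_of_mem hs)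

theorem tn_le {S : Submodule F (μ → F)} {X : Submodule F (ι → F)}
    (h : ∀ a, ∀ s ∈ S, τ a s ∈ X) : tn τ S ≤ X :=
  iSup_le fun a => Submodule.map_le_iff_le_comap.2 fun s hs => h a s hs

theorem mem_tn_single {y : μ → F} {v : ι → F} (h : v ∈ tn τ (Submodule.span F {y})) :
    ∃ u, v = τ u y := by
  have hle : tn τ (Submodule.span F {y}) ≤ LinearMap.range (τ.flip y) := tn_le fun a s hs => by
    obtain ⟨c, rfl⟩ := Submodule.mem_span_singleton.1 hs
    exact ⟨c • a, by simp⟩
  obtain ⟨u, hu⟩ := hle h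
  exact ⟨u, hu.symm⟩

variable (T : Ten Q B α β τ)
include T

theorem ctr_mem_of_tn {S : Submodule F (μ → F)} {v : ι → F} (h : v ∈ tn τ S) (c : κ → F) :
    T.swap.ctr c v ∈ S :=
  (tn_le (τ := τ) (X := S.comap (T.swap.ctr c)) fun a s hs => by
    show T.swap.ctr c (τ a s) ∈ S
    rw [show τ a s = τ.flip s a from rfl, T.swap.ctr_tau]
    exact S.smul_mem _ hs) h

theorem mem_of_tau_mem_tn {S : Submodule F (μ → F)} {a : κ → F} (ha : a ≠ 0) {w : μ → F}
    (h : τ a w ∈ tn τ S) : w ∈ S := by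
  obtain ⟨c, hc⟩ := T.SU.exists_pair ha
  have h1 := ctr_mem_of_tn T h c
  rwa [show τ a w = τ.flip w a from rfl, T.swap.ctr_tau, hc, one_smul] at h1

theorem tn_top : tn τ (⊤ : Submodule F (μ → F)) = ⊤ :=
  eq_top_iff.2 <| T.span ▸ Submodule.span_le.2 (by
    rintro _ ⟨⟨a, w⟩, rfl⟩
    exact tau_mem_tn a trivial)

theorem finrank_tn (S : Submodule F (μ → F)) :
    finrank F (tn τ S) = Fintype.card κ * finrank F S := by
  classical
  let φ : (κ → S) →ₗ[F] (ι → F) :=
    ∑ i, τ (Pi.single i 1) ∘ₗ S.subtype ∘ₗ (LinearMap.proj i : (κ → S) →ₗ[F] S)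
  have hφ : ∀ c, φ c = ∑ i, τ (Pi.single i 1) (c i : μ → F) := fun c => by
    simp [φ, LinearMap.sum_apply]
  have hinj : Function.Injective φ := (injective_iff_map_eq_zero φ).2 fun c hc => funext fun i =>
    Subtype.ext <| T.nβ (c i) fun z => by
      have h1 := congrArg (T.ctr z) hc
      rw [hφ, map_sum, map_zero] at h1
      simp only [T.ctr_tau] at h1
      have h2 := congrFun h1 i
      simpa [Pi.single_apply] using h2
  have hr : LinearMap.range φ = tn τ S := by
    refine le_antisymm ?_ (tn_le fun a s hs => ⟨fun i => a i • ⟨s, hs⟩, ?_⟩)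
    · rintro _ ⟨c, rfl⟩
      rw [hφ]
      exact Submodule.sum_mem _ fun i _ => tau_mem_tn _ (c i).2
    · rw [hφ]
      conv_rhs => rw [pi_eq_sum_univ' a, map_sum, LinearMap.sum_apply]
      simp
  rw [← hr, LinearMap.finrank_range_of_inj hinj, Module.finrank_pi_fintype, Finset.sum_const,
    Finset.card_univ, smul_eq_mul]

theorem card_eq : Fintype.card ι = Fintype.card κ * Fintype.card μ := by
  have h := finrank_tn T ⊤
  rwa [tn_top T, finrank_top, finrank_top, finrank_fintype_fun_eq_card,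
    finrank_fintype_fun_eq_card] at h

/-- The range of a map acting on the second factor. -/
theorem range_eq_tn {f : (ι → F) →ₗ[F] (ι → F)} {e : (μ → F) →ₗ[F] (μ → F)}
    (h : ∀ a w, f (τ a w) = τ a (e w)) : LinearMap.range f = tn τ (LinearMap.range e) := by
  refine le_antisymm ?_ (tn_le ?_)
  · rw [LinearMap.range_eq_map, ← T.span, Submodule.map_span, Submodule.span_le]
    rintro _ ⟨_, ⟨⟨a, w⟩, rfl⟩, rfl⟩
    rw [h]
    exact tau_mem_tn a ⟨w, rfl⟩
  · rintro a _ ⟨w, rfl⟩
    exact ⟨τ a w, h a w⟩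

/-- A vector with prescribed pairings with a plane. -/
theorem exists_dual_plane {x y : μ → F} (hx : x ∉ Submodule.span F {y}) :
    ∃ w, β x w = 1 ∧ β y w = 0 := by
  obtain ⟨g, hg, hgy⟩ := Submodule.exists_dual_map_eq_bot_of_notMem hx inferInstance
  set w := (β.toDual T.swap.nα').symm ((g x)⁻¹ • g)
  have hw : ∀ v, β v w = (g x)⁻¹ * g v := fun v => by
    rw [T.sβ, LinearMap.BilinForm.apply_toDual_symm_apply]; rfl
  refine ⟨w, by rw [hw, inv_mul_cancel₀ hg], ?_⟩
  have h1 : g y ∈ (Submodule.span F {y}).map g := ⟨y, Submodule.mem_span_singleton_self y, rfl⟩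
  rw [hgy, Submodule.mem_bot] at h1
  rw [hw, h1, mul_zero]

omit T

/-- A totally singular plane of the second factor. -/
structure Plane (β : LinearMap.BilinForm F (μ → F)) (x y : μ → F) : Prop where
  singX : qf β x = 0
  singY : qf β y = 0
  orth : β x y = 0
  ne : x ≠ 0
  indep : y ∉ Submodule.span F {x}

theorem Plane.indep' {x y : μ → F} (P : Plane β x y) : x ∉ Submodule.span F {y} := fun h => by
  obtain ⟨c, hc⟩ := Submodule.mem_span_singleton.1 h
  refine P.indep (Submodule.mem_span_singleton.2 ⟨c⁻¹, ?_⟩)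
  have hc0 : c ≠ 0 := fun e => P.ne (by rw [← hc, e, zero_smul])
  rw [← hc, smul_smul, inv_mul_cancel₀ hc0, one_smul]

theorem Plane.finrank {x y : μ → F} (P : Plane β x y) :
    finrank F (Submodule.span F ({x, y} : Set (μ → F))) = 2 := by
  rw [Submodule.span_insert, sup_comm]
  have h := Submodule.finrank_sup_add_finrank_inf_eq (Submodule.span F {y}) (Submodule.span F {x})
  have h0 : Submodule.span F {y} ⊓ Submodule.span F {x} = ⊥ := by
    rw [eq_bot_iff]
    rintro v ⟨hy, hx⟩
    obtain ⟨c, rfl⟩ := Submodule.mem_span_singleton.1 hy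
    rw [Submodule.mem_bot]
    rcases eq_or_ne c 0 with rfl | hc
    · rw [zero_smul]
    · exact absurd ((Submodule.smul_mem_iff _ hc).1 hx) P.indep
  rw [h0, finrank_bot, finrank_span_singleton P.ne,
    finrank_span_singleton (fun e : y = 0 => P.indep (e ▸ Submodule.zero_mem _))] at h
  omega

include T

theorem Plane.root_act {x y : μ → F} (P : Plane β x y) (w : μ → F) :
    (sGL (qf β) β x y).val *ᵥ w = w + (β x w • y - β y w • x) := by
  rw [sGL_act T.SW P.singX P.orth, P.singY, zero_mul, add_zero, add_sub_assoc]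

/-- The root element of a plane. -/
noncomputable def rootA (x y : μ → F) : GL ι F := T.liftR (sGL (qf β) β x y)

theorem rootA_sq {x y : μ → F} (P : Plane β x y) :
    (opHom (rootA T x y) - 1) * (opHom (rootA T x y) - 1) = 0 :=
  T.hom_ext fun a w => by
    simp only [Module.End.mul_apply, LinearMap.sub_apply, Module.End.one_apply, opHom_apply, rootA,
      T.liftR_act, ← map_sub, P.root_act T, add_sub_cancel_left, LinearMap.zero_apply]
    simp [T.qf_zero.1 P.singX, T.qf_zero.1 P.singY, P.orth, T.sβ y x]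

theorem rootA_range {x y : μ → F} (P : Plane β x y) :
    LinearMap.range (opHom (rootA T x y) - 1) = tn τ (Submodule.span F ({x, y} : Set (μ → F))) := by
  let e : (μ → F) →ₗ[F] (μ → F) := (β x).smulRight y - (β y).smulRight x
  rw [range_eq_tn T (e := e) fun a w => by
    rw [LinearMap.sub_apply, Module.End.one_apply, opHom_apply, rootA, T.liftR_act, P.root_act T,
      map_add, add_sub_cancel_left]
    rfl]
  congr 1
  refine le_antisymm ?_ (Submodule.span_le.2 ?_)
  · rintro _ ⟨w, rfl⟩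
    simp only [e, LinearMap.sub_apply, LinearMap.smulRight_apply]
    exact sub_mem (Submodule.smul_mem _ _ (Submodule.subset_span (by simp)))
      (Submodule.smul_mem _ _ (Submodule.subset_span (by simp)))
  · obtain ⟨w₁, a1, a2⟩ := exists_dual_plane T P.indep'
    obtain ⟨w₂, b1, b2⟩ := exists_dual_plane T P.indep
    rintro v (rfl | rfl)
    · exact ⟨-w₂, by simp [e, b1, b2]⟩
    · exact ⟨w₁, by simp [e, a1, a2]⟩

theorem rootA_mem (hL : Over T L) {x y : μ → F} (P : Plane β x y) : rootA T x y ∈ L :=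
  hL.right x y P.singX P.orth

variable (hlose : Losing T L) (hL : Over T L)
include hlose hL

/-- An element taking `U ⊗ x` to a factor space acts factorwise. -/
theorem pure_of_line [Finite F] (hR : Ranks α μ) {g : GL ι F} (hg : g ∈ L) {x y : μ → F}
    (hx : qf β x = 0) (hx0 : x ≠ 0) (hy : qf β y = 0) (hy0 : y ≠ 0)
    (h : ∀ u, ∃ u', g.val *ᵥ τ u x = τ u' y) : Pure τ g := by
  have h5 : 5 ≤ Module.finrank F (⊤ : Submodule F (μ → F)) := by
    rw [finrank_top, finrank_fintype_fun_eq_card]; exact hR.hk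
  obtain ⟨q, hq, hqy⟩ := Orth.trans T.SW T.SW.ndeg_top h5 (x := y) (y := x) trivial trivial hy0 hx0
    (hy.trans hx.symm)
  obtain ⟨f, H⟩ := exists_hyp T.SW T.SW.ndeg_top (Submodule.mem_top : x ∈ ⊤) hx0 hx
  have h1 := pure_of_stab T H hlose hL hR (n := T.liftR q * g) (mul_mem (hL.root hq) hg) fun u => by
    obtain ⟨u', hu'⟩ := h u
    exact ⟨u', by rw [mul_act, hu', T.liftR_act, hqy]⟩
  have h2 := (pureGroup τ).mul_mem ((pureGroup τ).inv_mem (T.liftR_pure q)) h1
  rw [inv_mul_cancel_left] at h2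
  exact h2

/-- An element fixing `U ⊗ x` acts on the second factor alone. -/
theorem lift_of_fix [Finite F] (hR : Ranks α μ) {g : GL ι F} (hg : g ∈ L) {x : μ → F}
    (hx : qf β x = 0) (hx0 : x ≠ 0) (h : ∀ u, g.val *ᵥ τ u x = τ u x) :
    ∃ r : (μ → F) →ₗ[F] (μ → F), ∀ a w, g.val *ᵥ τ a w = τ a (r w) := by
  obtain ⟨p, q, hpq⟩ := pure_of_line T hlose hL hR hg hx hx0 hx hx0 fun u => ⟨u, h u⟩
  obtain ⟨f, hf⟩ := T.exists_one hx0
  obtain ⟨u₀, hu₀⟩ := T.exists_aniso_left (by have := hR.hm; omega)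
  have hc : ∀ u, β (q.val *ᵥ x) f • (p.val *ᵥ u) = u := fun u => by
    have h1 := congrArg (T.ctr f) ((h u).symm.trans (hpq u x))
    rw [T.ctr_tau, T.ctr_tau, hf, one_smul] at h1
    exact h1.symm
  set c := β (q.val *ᵥ x) f
  have hc0 : c ≠ 0 := fun e => hu₀ (by rw [← hc u₀, e, zero_smul]; simp)
  refine ⟨c⁻¹ • Matrix.mulVecLin q.val, fun a w => ?_⟩
  conv_rhs => rw [← hc a]
  rw [hpq, map_smul, LinearMap.smul_apply, LinearMap.smul_apply, Matrix.mulVecLin_apply, map_smul,
    smul_smul, mul_inv_cancel₀ hc0, one_smul]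

/-- An element taking `U ⊗ P` to a factor space acts factorwise. -/
theorem pure_of_plane [Finite F] (hR : Ranks α μ) {g : GL ι F} (hg : g ∈ L) {x y : μ → F}
    (P : Plane β x y) {P' : Submodule F (μ → F)}
    (hP' : (tn τ (Submodule.span F ({x, y} : Set (μ → F)))).map (Matrix.mulVecLin g.val) = tn τ P') :
    Pure τ g := by
  set S₀ := Submodule.span F ({x, y} : Set (μ → F))
  have hκ : 0 < Fintype.card κ := by have := hR.hm; omega
  have hinj : Function.Injective (Matrix.mulVecLin g.val) := Orth.act_injective g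
  have hdim : finrank F P' = 2 := by
    have h1 := congrArg (fun S : Submodule F (ι → F) => Module.finrank F S) hP'
    rw [← LinearEquiv.finrank_eq (Submodule.equivMapOfInjective _ hinj _), finrank_tn T,
      finrank_tn T, P.finrank] at h1
    exact (Nat.eq_of_mul_eq_mul_left hκ h1).symm
  obtain ⟨u₀, hu₀⟩ := T.exists_aniso_left hκ
  have hu₀0 : u₀ ≠ 0 := fun e => hu₀ (by simp [e])
  have hgI := hL.le hg
  have hSsing : ∀ s ∈ S₀, ∀ s' ∈ S₀, β s s' = 0 := by
    intro s hs s' hs'
    obtain ⟨a, b, rfl⟩ := Submodule.mem_span_pair.1 hs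
    obtain ⟨a', b', rfl⟩ := Submodule.mem_span_pair.1 hs'
    simp [T.qf_zero.1 P.singX, T.qf_zero.1 P.singY, P.orth, T.sβ y x]
  have hTS : ∀ v ∈ tn τ S₀, ∀ v' ∈ tn τ S₀, B v v' = 0 := fun v hv v' hv' =>
    (tn_le (τ := τ) (X := LinearMap.ker (B v)) fun a s hs =>
      LinearMap.mem_ker.2 <| (tn_le (τ := τ) (X := LinearMap.ker (B.flip (τ a s))) fun b s' hs' => by
        simp [T.pair, hSsing s' hs' s hs]) hv) hv'
  have hsing' : ∀ s ∈ P', qf β s = 0 := by
    intro s hs
    obtain ⟨v, hv, e⟩ := (hP'.symm.le (tau_mem_tn u₀ hs) : τ u₀ s ∈ _)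
    have h1 : B (τ u₀ s) (τ u₀ s) = 0 := by
      rw [← e, Matrix.mulVecLin_apply, T.space.B_act hgI]
      exact hTS v hv v hv
    rw [T.pair] at h1
    exact T.qf_zero.2 ((mul_eq_zero.1 h1).resolve_left hu₀)
  obtain ⟨μ₀, hμ₀, hμ₀0⟩ := Submodule.exists_mem_ne_zero_of_ne_bot (p := P') fun h => by
    rw [h, finrank_bot] at hdim; omega
  obtain ⟨w, hw, hQw⟩ := exists_nonsing_of_lt T.SW
    (A := LinearMap.ker (β x) ⊓ LinearMap.ker (β y)) (by
      have h1 := LinearMap.finrank_range_add_finrank_ker ((β x).prod (β y))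
      have h2 := Submodule.finrank_le (LinearMap.range ((β x).prod (β y)))
      rw [LinearMap.ker_prod, finrank_fintype_fun_eq_card] at h1
      rw [Module.finrank_prod, Module.finrank_self] at h2
      have := hR.hk
      omega)
  obtain ⟨hxw, hyw⟩ := Submodule.mem_inf.1 hw
  rw [LinearMap.mem_ker] at hxw hyw
  set S := T.liftR (sGL (qf β) β x w) with hSdef
  have hSfix : ∀ v ∈ tn τ S₀, S.val *ᵥ v = v := fun v hv => by
    have := (tn_le (τ := τ) (X := LinearMap.ker (Matrix.mulVecLin S.val - LinearMap.id))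
      fun a s hs => by
        obtain ⟨c, d, rfl⟩ := Submodule.mem_span_pair.1 hs
        rw [LinearMap.mem_ker, LinearMap.sub_apply, Matrix.mulVecLin_apply, LinearMap.id_apply,
          sub_eq_zero, hSdef, T.liftR_act, sGL_act T.SW P.singX hxw]
        simp [T.qf_zero.1 P.singX, P.orth, T.sβ w x, T.sβ w y, hxw, hyw]) hv
    rwa [LinearMap.mem_ker, LinearMap.sub_apply, Matrix.mulVecLin_apply, LinearMap.id_apply,
      sub_eq_zero] at this
  set h := g * S * g⁻¹ with hh
  have hhfix : ∀ u, h.val *ᵥ τ u μ₀ = τ u μ₀ := fun u => by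
    obtain ⟨v, hv, e⟩ := (hP'.symm.le (tau_mem_tn u hμ₀) : τ u μ₀ ∈ _)
    rw [← e, Matrix.mulVecLin_apply, hh, mul_act, mul_act, inv_act, hSfix v hv]
  obtain ⟨r, hr⟩ := lift_of_fix T hlose hL hR
    (mul_mem (mul_mem hg (hL.right x w P.singX hxw)) (inv_mem hg)) (hsing' μ₀ hμ₀) hμ₀0 hhfix
  -- the image of the square
  have hr' : ∀ a w, h.val *ᵥ τ a w = τ a (r w) := hr
  let D : (ι → F) →ₗ[F] (ι → F) := (opHom h - 1) * (opHom h - 1)
  let D₀ : (ι → F) →ₗ[F] (ι → F) := (opHom S - 1) * (opHom S - 1)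
  have hD₀ : ∀ a v, D₀ (τ a v) = τ a ((-(2 * qf β w) * β x v) • x) := by
    intro a v
    simp only [D₀, Module.End.mul_apply, LinearMap.sub_apply, Module.End.one_apply, opHom_apply,
      hSdef, T.liftR_act, ← map_sub, sGL_act T.SW P.singX hxw]
    congr 1
    simp [T.qf_zero.1 P.singX, hxw, T.sβ w x, T.SW.self w]
    module
  have hD : ∀ v, D (g.val *ᵥ v) = g.val *ᵥ D₀ v := fun v => by
    simp [D, D₀, hh, mul_act, inv_act, Matrix.mulVec_sub, opHom_apply]
  have hrD : ∀ a v, D (τ a v) = τ a ((r - LinearMap.id : (μ → F) →ₗ[F] (μ → F))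
      ((r - LinearMap.id : (μ → F) →ₗ[F] (μ → F)) v)) := fun a v => by
    simp [D, opHom_apply, hr', Matrix.mulVec_sub, -Matrix.mulVec_mulVec]
  have hc : -(2 * qf β w) ≠ 0 := neg_ne_zero.2 (mul_ne_zero T.h2 hQw)
  have hrange₀ : LinearMap.range D₀ = tn τ (Submodule.span F {x}) := by
    rw [range_eq_tn T (e := (-(2 * qf β w)) • (β x).smulRight x) fun a v => by
      rw [hD₀, LinearMap.smul_apply, LinearMap.smulRight_apply, smul_smul]]
    congr 1
    refine le_antisymm ?_ ((Submodule.span_singleton_le_iff_mem _ _).2 ?_)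
    · rintro _ ⟨v, rfl⟩
      simp only [LinearMap.smul_apply, LinearMap.smulRight_apply, smul_smul]
      exact Submodule.smul_mem _ _ (Submodule.mem_span_singleton_self x)
    · obtain ⟨v, hv⟩ := T.exists_one P.ne
      exact ⟨(-(2 * qf β w))⁻¹ • v, by
        rw [LinearMap.smul_apply, LinearMap.smulRight_apply, map_smul, hv, smul_smul, smul_eq_mul,
          mul_one, mul_inv_cancel₀ hc, one_smul]⟩
  set R₂ := LinearMap.range ((r - LinearMap.id) ∘ₗ (r - LinearMap.id))
  have hrange : (tn τ (Submodule.span F {x})).map (Matrix.mulVecLin g.val) = tn τ R₂ := by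
    rw [← range_eq_tn T (f := D) (e := (r - LinearMap.id) ∘ₗ (r - LinearMap.id)) hrD, ← hrange₀]
    refine le_antisymm ?_ ?_
    · rintro _ ⟨_, ⟨v, rfl⟩, rfl⟩
      exact ⟨g.val *ᵥ v, hD v⟩
    · rintro _ ⟨v, rfl⟩
      exact ⟨D₀ ((g⁻¹ : GL ι F).val *ᵥ v), ⟨_, rfl⟩, by
        rw [Matrix.mulVecLin_apply, ← hD, act_inv]⟩
  have hR₂ : Module.finrank F R₂ = 1 := by
    have h1 := congrArg (fun S : Submodule F (ι → F) => Module.finrank F S) hrange
    rw [← LinearEquiv.finrank_eq (Submodule.equivMapOfInjective _ hinj _), finrank_tn T,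
      finrank_tn T, finrank_span_singleton P.ne] at h1
    exact (Nat.eq_of_mul_eq_mul_left hκ h1).symm
  obtain ⟨y', hy', hy'0⟩ := Submodule.exists_mem_ne_zero_of_ne_bot (p := R₂) fun h => by
    rw [h, finrank_bot] at hR₂; omega
  have hspan : R₂ = Submodule.span F {y'} :=
    (Submodule.eq_of_le_of_finrank_le ((Submodule.span_singleton_le_iff_mem _ _).2 hy')
      (by rw [hR₂, finrank_span_singleton hy'0])).symm
  rw [hspan] at hrange
  have hy'sing : qf β y' = 0 := by
    obtain ⟨v, hv, e⟩ :=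
      (hrange.symm.le (tau_mem_tn u₀ (Submodule.mem_span_singleton_self y')) : τ u₀ y' ∈ _)
    have hv' : v ∈ tn τ S₀ :=
      tn_le (fun a s hs => tau_mem_tn a (Submodule.span_mono (by simp) hs)) hv
    have h1 : B (τ u₀ y') (τ u₀ y') = 0 := by
      rw [← e, Matrix.mulVecLin_apply, T.space.B_act hgI]
      exact hTS v hv' v hv'
    rw [T.pair] at h1
    exact T.qf_zero.2 ((mul_eq_zero.1 h1).resolve_left hu₀)
  exact pure_of_line T hlose hL hR hg P.singX P.ne hy'sing hy'0 fun u =>
    mem_tn_single (hrange.le ⟨τ u x, tau_mem_tn u (Submodule.mem_span_singleton_self x), rfl⟩)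

/-- The centraliser of a root element acts factorwise. -/
theorem pure_of_comm [Finite F] (hR : Ranks α μ) {g : GL ι F} (hg : g ∈ L) {x y : μ → F}
    (P : Plane β x y) (hc : g * rootA T x y = rootA T x y * g) : Pure τ g := by
  refine pure_of_plane T hlose hL hR hg P (P' := Submodule.span F ({x, y} : Set (μ → F))) ?_
  rw [← rootA_range T P]
  set A := opHom (rootA T x y) - 1
  have hcA : ∀ v, A (g.val *ᵥ v) = g.val *ᵥ A v := fun v => by
    simp [A, opHom_apply, Matrix.mulVec_sub, -Matrix.mulVec_mulVec]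
    rw [← mul_act, ← hc, mul_act]
  refine le_antisymm ?_ ?_
  · rintro _ ⟨_, ⟨v, rfl⟩, rfl⟩
    exact ⟨g.val *ᵥ v, hcA v⟩
  · rintro _ ⟨v, rfl⟩
    exact ⟨A ((g⁻¹ : GL ι F).val *ᵥ v), ⟨_, rfl⟩, by rw [Matrix.mulVecLin_apply, ← hcA, act_inv]⟩

/-- An element conjugating a root element into the factorwise group acts factorwise. -/
theorem pure_of_conj [Finite F] (hR : Ranks α μ) {g : GL ι F} (hg : g ∈ L) {x y : μ → F}
    (P : Plane β x y) (hb : Pure τ (g * rootA T x y * g⁻¹)) : Pure τ g := by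
  have hκ : 0 < Fintype.card κ := by have := hR.hm; omega
  set a := rootA T x y
  set b := g * a * g⁻¹ with hbdef
  have hbI : b ∈ isometryGroup F Q :=
    hL.le (mul_mem (mul_mem hg (rootA_mem T hL P)) (inv_mem hg))
  obtain ⟨p, q, hpq⟩ := hb
  have hconj : ∀ v, (opHom b - 1 : Module.End F (ι → F)) (g.val *ᵥ v)
      = g.val *ᵥ (opHom a - 1 : Module.End F (ι → F)) v := fun v => by
    simp [hbdef, opHom_apply, mul_act, inv_act, Matrix.mulVec_sub]
  have hsq : ∀ v, b.val *ᵥ (b.val *ᵥ v) + v = (2 : F) • (b.val *ᵥ v) := fun v => by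
    have h1 := LinearMap.congr_fun (show (opHom a - 1) * (opHom a - 1) = 0 from rootA_sq T P)
      ((g⁻¹ : GL ι F).val *ᵥ v)
    rw [Module.End.mul_apply, LinearMap.zero_apply] at h1
    have h3 := congrArg (g.val *ᵥ ·) h1
    simp only [← hconj, act_inv, Matrix.mulVec_zero] at h3
    simp only [LinearMap.sub_apply, Module.End.one_apply, opHom_apply, Matrix.mulVec_sub] at h3
    linear_combination (norm := module) h3
  have hrange : LinearMap.range (opHom b - 1) =
      (tn τ (Submodule.span F ({x, y} : Set (μ → F)))).map (Matrix.mulVecLin g.val) := by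
    rw [← rootA_range T P]
    refine le_antisymm ?_ ?_
    · rintro _ ⟨v, rfl⟩
      exact ⟨_, ⟨(g⁻¹ : GL ι F).val *ᵥ v, rfl⟩, by
        rw [Matrix.mulVecLin_apply, ← hconj, act_inv]⟩
    · rintro _ ⟨_, ⟨v, rfl⟩, rfl⟩
      exact ⟨g.val *ᵥ v, hconj v⟩
  have hrank : finrank F (LinearMap.range (opHom b - 1)) = Fintype.card κ * 2 := by
    rw [hrange, ← LinearEquiv.finrank_eq
      (Submodule.equivMapOfInjective _ (Orth.act_injective g) _), finrank_tn T, P.finrank]
  have key : ∀ u w, τ (p.val *ᵥ (p.val *ᵥ u)) (q.val *ᵥ (q.val *ᵥ w)) + τ u w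
      = (2 : F) • τ (p.val *ᵥ u) (q.val *ᵥ w) := fun u w => by
    rw [← hpq, ← hpq, hsq]
  by_cases hps : ∃ c : F, ∀ u, p.val *ᵥ u = c • u
  · obtain ⟨c, hc⟩ := hps
    refine pure_of_plane T hlose hL hR hg P
      (P' := LinearMap.range (c • Matrix.mulVecLin q.val - LinearMap.id)) ?_
    rw [← hrange]
    exact range_eq_tn T fun u w => by
      simp [opHom_apply, hpq, hc, smul_smul]
  by_cases hqs : ∃ c : F, ∀ w, q.val *ᵥ w = c • w
  · -- only the first factor moves: excluded by the rank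
    exfalso
    obtain ⟨c, hc⟩ := hqs
    set N : (κ → F) →ₗ[F] (κ → F) := c • Matrix.mulVecLin p.val - LinearMap.id
    have hact : ∀ u w, (opHom b - 1 : Module.End F (ι → F)) (τ u w) = τ (N u) w := fun u w => by
      simp [opHom_apply, hpq, hc, N, smul_smul]
    have hr := range_eq_tn T.swap (f := (opHom b - 1)) (e := N) fun w u => hact u w
    have hcount : Fintype.card μ * finrank F (LinearMap.range N) = Fintype.card κ * 2 := by
      rw [← finrank_tn T.swap, ← hr, hrank]
    obtain ⟨x₀, hx₀⟩ := T.swap.exists_aniso_left (by have := hR.hk; omega)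
    have hskew : ∀ u u', α (N u) u' = -α u (N u') := by
      intro u u'
      have h0 : (opHom b - 1 : Module.End F (ι → F)) * (opHom b - 1) = 0 :=
        LinearMap.ext fun v => by
          simp only [Module.End.mul_apply, LinearMap.sub_apply, Module.End.one_apply, opHom_apply,
            Matrix.mulVec_sub, LinearMap.zero_apply]
          linear_combination (norm := module) hsq v
      have h1 := skew_of_sq_zero T.space hbI h0 (τ u x₀) (τ u' x₀)
      rw [hact, hact, T.pair, T.pair, neg_mul_eq_neg_mul] at h1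
      exact mul_right_cancel₀ hx₀ h1
    have hr1 : finrank F (LinearMap.range N) = 1 := by
      have h1 := hR.hmk
      rcases Nat.lt_or_ge (finrank F (LinearMap.range N)) 2 with h2 | h2
      · rcases Nat.eq_zero_or_pos (finrank F (LinearMap.range N)) with h3 | h3
        · rw [h3] at hcount; omega
        · omega
      · have := Nat.mul_le_mul_left (Fintype.card μ) h2
        omega
    obtain ⟨z, ⟨u₁, hu₁⟩, hz0⟩ := Submodule.exists_mem_ne_zero_of_ne_bot (p := LinearMap.range N)
      fun h => by rw [h, finrank_bot] at hr1; omega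
    have hspan : LinearMap.range N = Submodule.span F {z} :=
      (Submodule.eq_of_le_of_finrank_le ((Submodule.span_singleton_le_iff_mem _ _).2 (hu₁ ▸ LinearMap.mem_range_self N u₁))
        (by rw [hr1, finrank_span_singleton hz0])).symm
    have hz1 : α z u₁ = 0 := by
      have h1 := hskew u₁ u₁
      rw [hu₁, T.sα u₁ z] at h1
      exact (mul_eq_zero.1 (show (2 : F) * α z u₁ = 0 by linear_combination h1)).resolve_left T.h2
    refine hz0 (T.nα z fun u => ?_)
    obtain ⟨c', hc'⟩ := Submodule.mem_span_singleton.1 (hspan ▸ LinearMap.mem_range_self N u)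
    have h1 := hskew u u₁
    rw [hu₁, ← hc', map_smul, LinearMap.smul_apply, hz1, smul_zero] at h1
    rw [T.sα]
    linear_combination h1
  · -- both factors move: impossible
    exfalso
    push Not at hps hqs
    obtain ⟨u, hu⟩ : ∃ u, p.val *ᵥ u ∉ Submodule.span F {u} := by
      by_contra hcon
      push Not at hcon
      obtain ⟨c, hc⟩ := ((Matrix.mulVecLin p.val).exists_eq_smul_id_of_forall_notLinearIndependent
        fun v hv => by
          obtain ⟨t, ht⟩ := Submodule.mem_span_singleton.1 (hcon v)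
          have := LinearIndependent.pair_iff.1 hv t (-1) (by
            rw [Matrix.mulVecLin_apply, ← ht, neg_one_smul, add_neg_cancel])
          exact one_ne_zero (neg_eq_zero.1 this.2))
      obtain ⟨v, hv⟩ := hps c
      exact hv (LinearMap.congr_fun hc v)
    obtain ⟨w, hw⟩ : ∃ w, q.val *ᵥ w ∉ Submodule.span F {w} := by
      by_contra hcon
      push Not at hcon
      obtain ⟨c, hc⟩ := ((Matrix.mulVecLin q.val).exists_eq_smul_id_of_forall_notLinearIndependent
        fun v hv => by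
          obtain ⟨t, ht⟩ := Submodule.mem_span_singleton.1 (hcon v)
          have := LinearIndependent.pair_iff.1 hv t (-1) (by
            rw [Matrix.mulVecLin_apply, ← ht, neg_one_smul, add_neg_cancel])
          exact one_ne_zero (neg_eq_zero.1 this.2))
      obtain ⟨v, hv⟩ := hqs c
      exact hv (LinearMap.congr_fun hc v)
    have hu0 : u ≠ 0 := fun e => hu (by simp [e])
    have hw0 : w ≠ 0 := fun e => hw (by simp [e])
    have hu' : u ∉ Submodule.span F {p.val *ᵥ u} := fun h => by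
      obtain ⟨t, ht⟩ := Submodule.mem_span_singleton.1 h
      have ht0 : t ≠ 0 := fun e => hu0 (by rw [← ht, e, zero_smul])
      exact hu (Submodule.mem_span_singleton.2 ⟨t⁻¹, (inv_smul_eq_iff₀ ht0).2 ht.symm⟩)
    have hw' : w ∉ Submodule.span F {q.val *ᵥ w} := fun h => by
      obtain ⟨t, ht⟩ := Submodule.mem_span_singleton.1 h
      have ht0 : t ≠ 0 := fun e => hw0 (by rw [← ht, e, zero_smul])
      exact hw (Submodule.mem_span_singleton.2 ⟨t⁻¹, (inv_smul_eq_iff₀ ht0).2 ht.symm⟩)
    obtain ⟨c, hc1, hc2⟩ := exists_dual_plane T.swap hu'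
    obtain ⟨z, hz1, hz2⟩ := exists_dual_plane T hw'
    -- the square of the second part is scalar
    have hq2 : ∀ w', α (p.val *ᵥ (p.val *ᵥ u)) c • (q.val *ᵥ (q.val *ᵥ w')) + w' = 0 := fun w' => by
      have h1 := congrArg (T.swap.ctr c) (key u w')
      have e : ∀ (a : κ → F) (v : μ → F), τ a v = τ.flip v a := fun _ _ => rfl
      rw [map_add, map_smul, e, e u, e, T.swap.ctr_tau, T.swap.ctr_tau, T.swap.ctr_tau, hc1, hc2,
        one_smul, zero_smul, smul_zero] at h1
      exact h1
    set d := α (p.val *ᵥ (p.val *ᵥ u)) c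
    have hd : d ≠ 0 := fun e => hw0 (by simpa [e] using hq2 w)
    have h1 := congrArg (T.ctr z) (key u w)
    have hqq : q.val *ᵥ (q.val *ᵥ w) = -d⁻¹ • w := by
      rw [neg_smul, eq_neg_iff_add_eq_zero]
      have h2 := congrArg (d⁻¹ • ·) (hq2 w)
      simp only [smul_add, smul_smul, inv_mul_cancel₀ hd, one_smul, smul_zero] at h2
      exact h2
    rw [map_add, map_smul, T.ctr_tau, T.ctr_tau, T.ctr_tau, hqq, map_smul, LinearMap.smul_apply,
      hz1, hz2, one_smul, zero_smul, smul_zero] at h1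
    simp only [smul_eq_mul, mul_one] at h1
    have hpp : p.val *ᵥ (p.val *ᵥ u) = d • u := by
      have h2 := congrArg (d • ·) h1
      simp only [smul_add, smul_smul, smul_neg, mul_neg, mul_inv_cancel₀ hd, neg_smul, one_smul, smul_zero] at h2
      exact (neg_add_eq_zero.1 h2)
    have h3 := key u w
    have h4 : τ (d • u) (-d⁻¹ • w) + τ u w = 0 := by
      rw [map_smul, map_smul τ, LinearMap.smul_apply, smul_smul, neg_mul, inv_mul_cancel₀ hd,
        neg_one_smul, neg_add_cancel]
    rw [hpp, hqq, h4] at h3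
    exact smul_ne_zero T.h2 (T.tau_ne_zero (Orth.act_ne_zero hu0) (Orth.act_ne_zero hw0)) h3.symm

end Cfsg.Lib.Linear.OOTensor
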