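import Cfsg.Agent.Lib.Linear.OOTensor.Unip

/-!
# An element preserving a totally singular factor space acts factorwise
-/

set_option autoImplicit false
set_option linter.unusedSectionVars false
set_option linter.unusedSimpArgs false

namespace Cfsg.Lib.Linear.OOTensor

open Module
open scoped Matrix
open Cfsg.Lib.Linear.Orth
open Cfsg.Lib.Linear.SpTensor (InA)

variable {ι κ μ : Type} [Fintype ι] [DecidableEq ι] [Fintype κ] [DecidableEq κ] [Fintype μ]
  [DecidableEq μ] {F : Type*} [Field F] {Q : (ι → F) → F} {B : LinearMap.BilinForm F (ι → F)}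
  {α : LinearMap.BilinForm F (κ → F)} {β : LinearMap.BilinForm F (μ → F)}
  {τ : (κ → F) →ₗ[F] (μ → F) →ₗ[F] (ι → F)} {L : Subgroup (GL ι F)} (T : Ten Q B α β τ)
  {x f : μ → F} (H : Hyp (qf β) β ⊤ x f)

theorem exists_gl {φ : Module.End F (μ → F)} (h : Function.Injective φ) :
    ∃ g : GL μ F, ∀ v, g.val *ᵥ v = φ v := by
  have hd : (LinearMap.toMatrix' φ).det ≠ 0 := by
    rw [LinearMap.det_toMatrix']
    exact IsUnit.ne_zero (LinearEquiv.isUnit_det' (LinearEquiv.ofInjectiveEndo φ h))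
  exact ⟨Matrix.GeneralLinearGroup.mkOfDetNeZero _ hd, fun v => LinearMap.toMatrix'_mulVec φ v⟩

include T

theorem Ten.lift_comm (p : GL κ F) (q : GL μ F) :
    T.swap.liftR p * T.liftR q = T.liftR q * T.swap.liftR p :=
  T.gl_ext fun a w => by rw [mul_act, mul_act, T.liftR_act, T.liftL_act, T.liftL_act, T.liftR_act]

theorem mkGL_conj_right {g : GL ι F} {p : GL κ F} {q h : GL μ F}
    (hg : ∀ a w, g.val *ᵥ τ a w = τ (p.val *ᵥ a) (q.val *ᵥ w)) :
    g⁻¹ * T.liftR h * g = T.liftR (q⁻¹ * h * q) := by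
  have : T.liftR h * g = g * T.liftR (q⁻¹ * h * q) := T.gl_ext fun a w => by
    rw [mul_act, mul_act, hg, T.liftR_act, T.liftR_act, hg, mul_act, mul_act, act_inv]
  rw [mul_assoc, this, inv_mul_cancel_left]

include H

theorem kill_perp {X : Type*} [AddCommGroup X] [Module F X] {Φ : (ι → F) →ₗ[F] X}
    (h : ∀ u w, β x w = 0 → Φ (τ u w) = 0) (v : ι → F) : Φ v = Φ (τ (T.ctr x v) f) := by
  refine LinearMap.congr_fun (T.hom_ext (f := Φ) (g := Φ ∘ₗ τ.flip f ∘ₗ T.ctr x) fun a w => ?_) v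
  obtain ⟨r, hr, ew⟩ := exists_split T.SW H w
  simp only [LinearMap.comp_apply, T.ctr_tau, T.sβ w x]
  conv_lhs => rw [ew]
  simp only [map_add, map_smul, h a r (mem_perp2.1 hr).2.1, h a x (T.qf_zero.1 H.singE)]
  simp

/-- An isometry of the second factor fixing `x^⊥` is trivial. -/
theorem fix_perp_eq_one {h : GL μ F} (hh : h ∈ isometryGroup F (qf β))
    (hfix : ∀ w, β x w = 0 → h.val *ᵥ w = w) : h = 1 := by
  have hx := T.qf_zero.1 H.singE
  set d := h.val *ᵥ f - f with hd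
  have hperp : ∀ w, β x w = 0 → β d w = 0 := fun w hw => by
    rw [hd, map_sub, LinearMap.sub_apply]
    conv_lhs => arg 1; rw [← hfix w hw, T.SW.B_act hh]
    rw [sub_self]
  obtain ⟨r, hr, ed⟩ := exists_split T.SW H d
  obtain ⟨-, hr1, hr2⟩ := mem_perp2.1 hr
  have h1 : β x d = 0 := by rw [T.sβ]; exact hperp x hx
  rw [h1, zero_smul, add_zero] at ed
  have hr0 : r = 0 := H.ndeg T.SW T.SW.ndeg_top r hr fun y hy => by
    obtain ⟨-, hy1, hy2⟩ := mem_perp2.1 hy
    have h2 := hperp y hy1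
    rw [ed] at h2
    simpa [hy1] using h2
  rw [hr0, add_zero] at ed
  set c := β f d
  have hc : c = 0 := by
    have h2 := mem_iso.1 hh f
    rw [show h.val *ᵥ f = f + c • x by rw [← ed, hd]; abel, T.SW.add, T.SW.smul, H.singE, H.singF,
      map_smul, H.pair' T.SW] at h2
    simpa using h2
  refine Orth.gl_ext fun w => ?_
  obtain ⟨s, hs, ew⟩ := exists_split T.SW H w
  have hf : h.val *ᵥ f = f := by
    rw [hc, zero_smul] at ed
    exact sub_eq_zero.1 ed
  rw [ew, Units.val_one, Matrix.one_mulVec, Matrix.mulVec_add, Matrix.mulVec_add, Matrix.mulVec_smul,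
    Matrix.mulVec_smul, hfix x hx, hf, hfix s (mem_perp2.1 hs).2.1]

variable (hlose : Losing T L) (hL : Over T L)
include hlose hL

/-- An element preserving `U ⊗ x` acts factorwise, once the radical consists of Siegel elements. -/
theorem pure_of_stab' [Finite F] (hm : 3 ≤ Fintype.card κ) (hk : 3 ≤ Fintype.card μ)
    (hs : 4 ≤ Fintype.card κ ∨ ∃ s : F, s ≠ 0 ∧ s * s ≠ 1)
    (huni : ∀ {g : GL ι F}, g ∈ L → Unip T x g →
      ∃ a ∈ perp2 β ⊤ x f, g = T.liftR (sGL (qf β) β x a)) {n : GL ι F} (hn : n ∈ L)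
    (hnx : ∀ u, ∃ u', n.val *ᵥ τ u x = τ u' x) : Pure τ n := by
  have hWn := H.ndeg T.SW T.SW.ndeg_top
  have hnI := hL.le hn
  have hκ : 0 < Fintype.card κ := by omega
  obtain ⟨ψ, hψb, hψ⟩ := exists_line_map T H hnx
  have hctr : ∀ {v}, T.ctr x v = 0 → T.ctr x (n.val *ᵥ v) = 0 := fun {v} hv => T.α_ext fun c => by
    obtain ⟨c', rfl⟩ := hψb.2 c
    rw [T.α_ctr, ← hψ, T.space.B_act hnI, ← T.α_ctr, hv]
    simp
  have hctr0 : ∀ {u w}, β x w = 0 → T.ctr x (τ u w) = 0 := fun {u w} h => by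
    rw [T.ctr_tau, T.sβ, h, zero_smul]
  obtain ⟨u₀, hu₀⟩ := T.exists_aniso_left hκ
  have hu₀0 : u₀ ≠ 0 := fun e => hu₀ (by simp [e])
  have hψu₀ : ψ u₀ ≠ 0 := fun e => hu₀0 (hψb.1 (by rw [e, map_zero]))
  -- the induced map on the middle
  have hR' : ∀ a ∈ perp2 β ⊤ x f, ∃ a' ∈ perp2 β ⊤ x f,
      n * T.liftR (sGL (qf β) β x a) * n⁻¹ = T.liftR (sGL (qf β) β x a') := fun a ha =>
    huni (mul_mem (mul_mem hn (hL.right x a H.singE (mem_perp2.1 ha).2.1))
      (inv_mem hn)) (Unip.conj T H hnI hnx (unip_siegel T H (mem_perp2.1 ha).2.1))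
  choose R hRm hRe using hR'
  have hRkey : ∀ (a) (ha : a ∈ perp2 β ⊤ x f) (u : κ → F), ∀ w ∈ perp2 β ⊤ x f,
      T.ctr (R a ha) (n.val *ᵥ τ u w) = β a w • ψ u := by
    intro a ha u w hw
    obtain ⟨-, ha1, -⟩ := mem_perp2.1 ha
    obtain ⟨-, hw1, -⟩ := mem_perp2.1 hw
    have h1 := congrArg (fun g : GL ι F => g.val *ᵥ (n.val *ᵥ τ u w)) (hRe a ha)
    simp only [mul_act, inv_act] at h1
    rw [T.liftR_sGL_act H ha1, T.liftR_sGL_act H (mem_perp2.1 (hRm a ha)).2.1, hctr0 hw1,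
      hctr (hctr0 hw1), T.ctr_tau, T.sβ w a] at h1
    simp [Matrix.mulVec_sub, Matrix.mulVec_smul, hψ] at h1
    refine T.tau_inj (hyp_ne_zero T H) ?_
    rw [map_smul, LinearMap.smul_apply]
    exact h1.symm
  have huniq : ∀ b ∈ perp2 β ⊤ x f, (∀ u, ∀ w ∈ perp2 β ⊤ x f, T.ctr b (n.val *ᵥ τ u w) = 0) →
      b = 0 := by
    intro b hb hz
    obtain ⟨-, hb1, hb2⟩ := mem_perp2.1 hb
    have hkill : ∀ u w, β x w = 0 → (T.ctr b ∘ₗ Matrix.mulVecLin n.val) (τ u w) = 0 := by
      intro u w hw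
      obtain ⟨r, hr, ew⟩ := exists_split T.SW H w
      rw [ew, hw]
      simp [Matrix.mulVec_add, Matrix.mulVec_smul, hψ, T.ctr_tau, hb1, hz u r hr]
    refine hWn b hb fun y hy => ?_
    have h1 := kill_perp T H hkill ((n⁻¹ : GL ι F).val *ᵥ τ u₀ y)
    rw [T.ctr_inv H hnI hψ (hctr0 (mem_perp2.1 hy).2.1)] at h1
    simp [act_inv, T.ctr_tau, hu₀0] at h1
    rw [T.sβ]; exact h1
  let Rl : perp2 β ⊤ x f →ₗ[F] perp2 β ⊤ x f :=
    { toFun := fun a => ⟨R a.1 a.2, hRm a.1 a.2⟩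
      map_add' := fun a b => Subtype.ext <| sub_eq_zero.1 <| huniq _
        (sub_mem (hRm _ _) (add_mem (hRm _ _) (hRm _ _))) fun u w hw => by
          show T.ctr (R _ _ - (R a.1 a.2 + R b.1 b.2)) (n.val *ᵥ τ u w) = 0
          rw [map_sub, LinearMap.sub_apply, map_add, LinearMap.add_apply,
            hRkey _ _ u w hw, hRkey _ _ u w hw, hRkey _ _ u w hw, Submodule.coe_add, map_add,
            LinearMap.add_apply, add_smul, sub_self]
      map_smul' := fun c a => Subtype.ext <| sub_eq_zero.1 <| huniq _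
        (sub_mem (hRm _ _) (Submodule.smul_mem _ _ (hRm _ _))) fun u w hw => by
          show T.ctr (R _ _ - c • R a.1 a.2) (n.val *ᵥ τ u w) = 0
          rw [map_sub, LinearMap.sub_apply, map_smul,
            LinearMap.smul_apply, hRkey _ _ u w hw, hRkey _ _ u w hw, SetLike.val_smul, map_smul,
            LinearMap.smul_apply, smul_eq_mul, smul_smul, sub_self] }
  have hRinj : Function.Injective Rl := (injective_iff_map_eq_zero Rl).2 fun a ha =>
    Subtype.ext <| hWn a.1 a.2 fun w hw => by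
      have h1 := hRkey a.1 a.2 u₀ w hw
      rw [show R a.1 a.2 = 0 from congrArg Subtype.val ha, map_zero, LinearMap.zero_apply] at h1
      exact (smul_eq_zero.1 h1.symm).resolve_right hψu₀
  let Re := LinearEquiv.ofInjectiveEndo Rl hRinj
  let P₀ : Module.End F (μ → F) :=
    LinearMap.id - (β f).smulRight x - (β x).smulRight f
  have hP : ∀ w, P₀ w ∈ perp2 β ⊤ x f := fun w => H.proj T.SW trivial
  have hPid : ∀ w ∈ perp2 β ⊤ x f, P₀ w = w := fun w hw => by
    simp [P₀, (mem_perp2.1 hw).2.1, (mem_perp2.1 hw).2.2]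
  let S : Module.End F (μ → F) :=
    (perp2 β ⊤ x f).subtype ∘ₗ Re.symm.toLinearMap ∘ₗ P₀.codRestrict _ hP
  let Rs : Module.End F (μ → F) :=
    P₀ ∘ₗ (β.toDual T.swap.nα').symm.toLinearMap ∘ₗ S.dualMap ∘ₗ (β : (μ → F) →ₗ[F] Module.Dual F _)
  have hRsW : ∀ w, Rs w ∈ perp2 β ⊤ x f := fun w => hP _
  have hRs : ∀ w, ∀ b ∈ perp2 β ⊤ x f, β (Rs w) b = β w (S b) := fun w b hb => by
    obtain ⟨-, hb1, hb2⟩ := mem_perp2.1 hb
    show β (P₀ ((β.toDual T.swap.nα').symm (S.dualMap (β w)))) b = _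
    simp only [P₀, LinearMap.sub_apply, LinearMap.id_apply, LinearMap.smulRight_apply, map_sub,
      map_smul, LinearMap.smul_apply, hb1, hb2, smul_zero, sub_zero,
      LinearMap.BilinForm.apply_toDual_symm_apply]
    rfl
  have hSR : ∀ a (ha : a ∈ perp2 β ⊤ x f), S (R a ha) = a := fun a ha => by
    show ((Re.symm (P₀.codRestrict _ hP (R a ha))) : μ → F) = a
    rw [show P₀.codRestrict _ hP (R a ha) = Re ⟨a, ha⟩ from Subtype.ext (hPid _ (hRm a ha)),
      LinearEquiv.symm_apply_apply]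
  have hsurj : ∀ b ∈ perp2 β ⊤ x f, ∃ a, ∃ ha : a ∈ perp2 β ⊤ x f, R a ha = b := fun b hb => by
    obtain ⟨⟨a, ha⟩, e⟩ := Re.surjective ⟨b, hb⟩
    exact ⟨a, ha, congrArg Subtype.val e⟩
  have hact : ∀ u, ∀ w ∈ perp2 β ⊤ x f,
      n.val *ᵥ τ u w = τ (ψ u) (Rs w) + τ (T.ctr f (n.val *ᵥ τ u w)) x := by
    intro u w hw
    obtain ⟨-, r1, r2⟩ := mem_perp2.1 (hRsW w)
    refine T.ext3 H ?_ ?_ fun b hb => ?_
    · simp [hctr (hctr0 (mem_perp2.1 hw).2.1), T.ctr_tau, T.sβ _ x, r1, T.qf_zero.1 H.singE]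
    · simp [T.ctr_tau, T.sβ _ f, r2, H.pair' T.SW]
    · obtain ⟨a, ha, rfl⟩ := hsurj b hb
      rw [hRkey a ha u w hw, map_add, T.ctr_tau, T.ctr_tau, (mem_perp2.1 hb).2.1, hRs w _ hb,
        hSR a ha, T.sβ w a, zero_smul, add_zero]
  have hform : ∀ u u', ∀ w ∈ perp2 β ⊤ x f, ∀ w' ∈ perp2 β ⊤ x f,
      α (ψ u) (ψ u') * β (Rs w) (Rs w') = α u u' * β w w' := by
    intro u u' w hw w' hw'
    rw [← T.pair u w u' w', ← T.space.B_act hnI, hact u w hw, hact u' w' hw']
    simp [T.pair, (mem_perp2.1 (hRsW w)).2.1, (mem_perp2.1 (hRsW w')).2.1, T.sβ (Rs w) x,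
      T.qf_zero.1 H.singE]
  obtain ⟨w₀, hw₀, hQw₀⟩ := exists_nonsing T.SW hWn (perp_ne_bot T.SW H hk)
  have hw₀' : β w₀ w₀ ≠ 0 := fun e => hQw₀ (T.qf_zero.2 e)
  set ν := β (Rs w₀) (Rs w₀) / β w₀ w₀ with hν
  have hψν : ∀ u u', α (ψ u) (ψ u') * ν = α u u' := fun u u' => by
    rw [hν, ← mul_div_assoc, hform u u' w₀ hw₀ w₀ hw₀, mul_div_cancel_right₀ _ hw₀']
  have hν0 : ν ≠ 0 := fun e => hu₀ (by rw [← hψν, e, mul_zero])
  have hβR : ∀ w ∈ perp2 β ⊤ x f, ∀ w' ∈ perp2 β ⊤ x f, β (Rs w) (Rs w') = ν * β w w' := by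
    intro w hw w' hw'
    have h1 := hform u₀ u₀ w hw w' hw'
    rw [← hψν u₀ u₀] at h1
    have h3 : α (ψ u₀) (ψ u₀) ≠ 0 := fun e => hu₀ (by rw [← hψν, e, zero_mul])
    exact mul_left_cancel₀ h3 (by linear_combination h1)
  -- the similitude of the second factor
  let q : Module.End F (μ → F) := (β f).smulRight x + (ν • β x).smulRight f + Rs ∘ₗ P₀
  have hq : ∀ w, q w = β f w • x + (ν * β x w) • f + Rs (P₀ w) := fun w => by simp [q]
  have hqβ : ∀ w w', β (q w) (q w') = ν * β w w' := by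
    intro w w'
    have e : ∀ z, z = β f z • x + β x z • f + P₀ z := fun z => by simp [P₀]
    obtain ⟨-, a1, a2⟩ := mem_perp2.1 (hRsW (P₀ w))
    obtain ⟨-, b1, b2⟩ := mem_perp2.1 (hRsW (P₀ w'))
    obtain ⟨-, c1, c2⟩ := mem_perp2.1 (hP w)
    obtain ⟨-, d1, d2⟩ := mem_perp2.1 (hP w')
    rw [hq, hq]
    conv_rhs => rw [e w, e w']
    simp only [map_add, map_smul, LinearMap.add_apply, LinearMap.smul_apply, smul_eq_mul,
      T.qf_zero.1 H.singE, T.qf_zero.1 H.singF, H.pair, H.pair' T.SW, T.sβ (Rs (P₀ w)) x,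
      T.sβ (Rs (P₀ w)) f, T.sβ (P₀ w) x, T.sβ (P₀ w) f, a1, a2, b1, b2, c1, c2, d1, d2,
      hβR _ (hP w) _ (hP w')]
    ring
  have hqinj : Function.Injective q := (injective_iff_map_eq_zero q).2 fun w hw =>
    T.nβ w fun w' => by
      have h1 := hqβ w w'
      rw [hw, map_zero, LinearMap.zero_apply] at h1
      exact (mul_eq_zero.1 h1.symm).resolve_left hν0
  obtain ⟨qG, hqG⟩ := exists_gl hqinj
  obtain ⟨pG, hpG⟩ := exists_gl hψb.1
  set π := T.mkGL pG qG with hπdef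
  have hπact : ∀ u w, π.val *ᵥ τ u w = τ (pG.val *ᵥ u) (qG.val *ᵥ w) := T.mkGL_act pG qG
  have hπI : π ∈ isometryGroup F Q := T.mem_iso_of (inv_ne_zero hν0) hπact
    (fun a b => by
      rw [hpG, hpG, ← hψν a b]
      field_simp)
    fun v w => by rw [hqG, hqG, hqβ, inv_inv]
  have hqx : qG.val *ᵥ x = x := by
    rw [hqG, hq, T.qf_zero.1 H.singE, H.pair' T.SW]
    simp [P₀, T.qf_zero.1 H.singE, H.pair' T.SW]
  have hπx : ∀ u, π.val *ᵥ τ u x = τ (ψ u) x := fun u => by rw [hπact, hqx, hpG]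
  have hqW : ∀ w ∈ perp2 β ⊤ x f, qG.val *ᵥ w = Rs w := fun w hw => by
    rw [hqG, hq, hPid w hw, (mem_perp2.1 hw).2.1, (mem_perp2.1 hw).2.2]
    simp
  set n' := π⁻¹ * n with hn'def
  have hn'I : n' ∈ isometryGroup F Q := mul_mem (inv_mem hπI) hnI
  have hn'x : ∀ u, n'.val *ᵥ τ u x = τ u x := fun u => by
    rw [hn'def, mul_act, hψ, ← hπx, inv_act]
  have hn' : Unip T x n' := by
    refine ⟨hn'x, fun v hv => ⟨T.ctr f (n'.val *ᵥ v - v), ?_⟩⟩
    let Φ : (ι → F) →ₗ[F] (ι → F) := Matrix.mulVecLin n'.val - LinearMap.id -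
      τ.flip x ∘ₗ T.ctr f ∘ₗ (Matrix.mulVecLin n'.val - LinearMap.id)
    have hΦ : ∀ u w, β x w = 0 → Φ (τ u w) = 0 := by
      intro u w hw
      obtain ⟨r, hr, ew⟩ := exists_split T.SW H w
      obtain ⟨c, hc⟩ := hψb.2 (T.ctr f (n.val *ᵥ τ u r))
      have hr' : n'.val *ᵥ τ u r = τ u r + τ c x := by
        rw [hn'def, mul_act, hact u r hr, ← hqW r hr, ← hc, ← hπx, ← hpG, ← hπact,
          ← Matrix.mulVec_add, inv_act]
      rw [ew, hw]
      simp only [Φ, LinearMap.sub_apply, LinearMap.comp_apply, Matrix.mulVecLin_apply, map_add,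
        map_smul, map_zero, zero_smul, LinearMap.zero_apply, LinearMap.id_apply, Matrix.mulVec_add,
        Matrix.mulVec_smul, hn'x, hr', map_sub, LinearMap.flip_apply, T.ctr_tau, H.pair, smul_zero,
        LinearMap.add_apply, LinearMap.smul_apply, one_smul, Matrix.mulVec_zero, add_zero]
      module
    have h1 := kill_perp T H hΦ v
    rw [hv, map_zero, LinearMap.zero_apply, map_zero] at h1
    simp only [Φ, LinearMap.sub_apply, LinearMap.comp_apply, Matrix.mulVecLin_apply,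
      LinearMap.id_apply, LinearMap.flip_apply] at h1
    rw [← sub_eq_zero, ← h1]
    abel
  -- the remainder commutes with the Siegel elements of both factors
  have hcommR : ∀ a ∈ perp2 β ⊤ x f,
      n' * T.liftR (sGL (qf β) β x a) = T.liftR (sGL (qf β) β x a) * n' := by
    intro a ha
    obtain ⟨-, ha1, -⟩ := mem_perp2.1 ha
    set s := sGL (qf β) β x a with hsdef
    set h := qG⁻¹ * sGL (qf β) β x (R a ha) * qG
    have hsI : s ∈ isometryGroup F (qf β) := sGL_mem T.SW H.singE ha1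
    have hhI : h ∈ isometryGroup F (qf β) := by
      refine mem_iso.2 fun w => ?_
      have hs' := mem_iso.1 (sGL_mem T.SW H.singE (mem_perp2.1 (hRm a ha)).2.1)
      have hqq : ∀ w, qf β (qG.val *ᵥ w) = ν * qf β w := fun w => by
        simp only [qf, hqG, hqβ]; ring
      refine mul_left_cancel₀ hν0 ?_
      rw [← hqq, mul_act, mul_act, act_inv, hs', hqq]
    have e : n' * T.liftR s * n'⁻¹ = T.liftR h := by
      rw [← mkGL_conj_right T hπact, ← hRe a ha, hn'def, mul_inv_rev, inv_inv]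
      simp only [mul_assoc]
      rfl
    have hu : Unip T x (T.liftR h) :=
      e ▸ (hn'.mul T (unip_siegel T H ha1)).mul T (hn'.inv T)
    have hhs : h = s := by
      refine inv_mul_eq_one.1 (fix_perp_eq_one T H (mul_mem (inv_mem hhI) hsI) fun w hw => ?_)
      rw [mul_act]
      suffices hsw : s.val *ᵥ w = h.val *ᵥ w by rw [hsw, inv_act]
      obtain ⟨r, hr, ew⟩ := exists_split T.SW H w
      have hr1 := (mem_perp2.1 hr).2.1
      have hc : T.cof f (T.liftR h) r = T.cof f (T.liftR s) r := by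
        rw [← e, Unip.cof_mul T H (hn'.mul T (unip_siegel T H ha1)) (hn'.inv T) hr1,
          Unip.cof_mul T H hn' (unip_siegel T H ha1) hr1, Unip.cof_inv T H hn' hr1]
        abel
      have e1 := hu.act T H hr1 u₀
      rw [hc, ← (unip_siegel T H ha1).act T H hr1 u₀, T.liftR_act, T.liftR_act] at e1
      have hsr := T.swap.tau_inj hu₀0 e1.symm
      have hx1 := T.swap.tau_inj hu₀0 ((hu.1 u₀).symm.trans (T.liftR_act h u₀ x))
      have hx2 := T.swap.tau_inj hu₀0
        (((unip_siegel T H ha1).1 u₀).symm.trans (T.liftR_act s u₀ x))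
      rw [hsdef] at hx2
      rw [ew, hw, hsdef]
      simp only [Matrix.mulVec_add, Matrix.mulVec_smul, zero_smul, add_zero, Matrix.mulVec_zero,
        ← hx1, ← hx2, hsr]
    rw [hhs] at e
    exact mul_inv_eq_iff_eq_mul.1 e
  have hsa : ∀ w ∈ perp2 β ⊤ x f, ∀ a b,
      α (T.cof f n' w a) b = α a (T.cof f n' w b) := fun w hw a b =>
    Unip.self_adjoint T H hn'I hn' (hcommR w hw) hw a b
  -- conjugation by a Siegel element of the first factor
  have hrel : ∀ u a, qf α u = 0 → α u a = 0 →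
      ∃ h : GL μ F, h ∈ isometryGroup F (qf β) ∧
        n' * T.swap.liftR (sGL (qf α) α u a) * n'⁻¹ * (T.swap.liftR (sGL (qf α) α u a))⁻¹ =
          T.liftR h := by
    intro u a hu hua
    have hψq : ∀ c, qf α (ψ c) = ν⁻¹ * qf α c := fun c => by
      simp only [qf]
      rw [← hψν c c]
      field_simp
    have hψa : ∀ c d, α (ψ c) (ψ d) = ν⁻¹ * α c d := fun c d => by
      rw [← hψν c d]; field_simp
    have hu' : qf α (ψ u) = 0 := by rw [hψq, hu, mul_zero]
    have hua' : α (ψ u) (ν • ψ a) = 0 := by rw [map_smul, hψa, hua, mul_zero, smul_zero]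
    set P := T.swap.liftR (sGL (qf α) α u a) with hPdef
    have hPI : P ∈ isometryGroup F Q := T.swap.liftR_mem (sGL_mem T.SU hu hua)
    have hπP : π * P * π⁻¹ = T.swap.liftR (sGL (qf α) α (ψ u) (ν • ψ a)) := by
      rw [mul_inv_eq_iff_eq_mul]
      refine T.gl_ext fun c w => ?_
      rw [mul_act, mul_act, hPdef, T.liftL_act, hπact, hπact, T.liftL_act, hpG, hpG,
        sGL_act T.SU hu hua, sGL_act T.SU hu' hua', T.SU.smul, hψq]
      congr 2
      simp only [map_add, map_sub, map_smul, LinearMap.smul_apply, hψa, smul_eq_mul]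
      match_scalars <;> field_simp
    set j := n' * P * n'⁻¹ * P⁻¹ with hj
    have hjL : π * j * π⁻¹ ∈ L := by
      have h1 : π * j * π⁻¹ = n * P * n⁻¹ * (π * P * π⁻¹)⁻¹ := by
        rw [hj, hn'def]; group
      rw [h1, hπP]
      exact mul_mem (mul_mem (mul_mem hn (hL.left u a hu hua)) (inv_mem hn))
        (inv_mem (hL.left _ _ hu' hua'))
    have hjU : Unip T x j := by
      rw [hj, mul_assoc n', mul_assoc n']
      exact hn'.mul T (Unip.conj T H hPI (fun c => ⟨_, T.liftL_act _ c x⟩) (hn'.inv T))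
    obtain ⟨b, hb, hbe⟩ := huni hjL
      (Unip.conj T H hπI (fun c => ⟨_, hπx c⟩) hjU)
    have hb1 := (mem_perp2.1 hb).2.1
    refine ⟨qG⁻¹ * sGL (qf β) β x b * qG, mem_iso.2 fun w => ?_, ?_⟩
    · have hqq : ∀ w, qf β (qG.val *ᵥ w) = ν * qf β w := fun w => by
        simp only [qf, hqG, hqβ]; ring
      refine mul_left_cancel₀ hν0 ?_
      rw [← hqq, mul_act, mul_act, act_inv, mem_iso.1 (sGL_mem T.SW H.singE hb1), hqq]
    · rw [← mkGL_conj_right T hπact, ← hbe]
      group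
  have hscal : ∀ w ∈ perp2 β ⊤ x f,
      T.cof f n' w ∈ Submodule.span F {(1 : Module.End F (κ → F))} := by
    intro w hw
    have hw1 := (mem_perp2.1 hw).2.1
    set C := T.cof f n' w
    let K : Submodule F (Module.End F (κ → F)) := Submodule.span F {C, 1}
    obtain ⟨c, hc⟩ := sym_scalar T.SU T.h2 hm hs (K := K)
      (fun X hX a b => by
        obtain ⟨s, t, rfl⟩ := Submodule.mem_span_pair.1 hX
        simp [C, hsa w hw a b])
      (fun X hX Y hY => by
        obtain ⟨s, t, rfl⟩ := Submodule.mem_span_pair.1 hX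
        obtain ⟨s', t', rfl⟩ := Submodule.mem_span_pair.1 hY
        simp [mul_add, add_mul, smul_smul, mul_comm s' s, mul_comm t' t, mul_comm s' t,
          mul_comm t' s]
        abel)
      (Submodule.subset_span (by simp)) (fun u a hu hua X hX => by
        obtain ⟨s, t, rfl⟩ := Submodule.mem_span_pair.1 hX
        obtain ⟨h, -, he⟩ := hrel u a hu hua
        set P := T.swap.liftR (sGL (qf α) α u a) with hPdef
        have hPI : P ∈ isometryGroup F Q := T.swap.liftR_mem (sGL_mem T.SU hu hua)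
        have hPx : ∀ c, ∃ c', P.val *ᵥ τ c x = τ c' x := fun c => ⟨_, T.liftL_act _ c x⟩
        have hQ : Unip T x (P * n'⁻¹ * P⁻¹) := Unip.conj T H hPI hPx (hn'.inv T)
        have hcQ : T.cof f (P * n'⁻¹ * P⁻¹) w = -cj (sGL (qf α) α u a) C :=
          Unip.cof_eq T H fun c => by
            have hinvp : (P⁻¹ : GL ι F).val *ᵥ τ c w =
                τ (((sGL (qf α) α u a)⁻¹ : GL κ F).val *ᵥ c) w := by
              rw [hPdef, ← map_inv, T.liftL_act]
            rw [mul_act, mul_act, hinvp, (hn'.inv T).act T H hw1, Unip.cof_inv T H hn' hw1,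
              Matrix.mulVec_add, hPdef, T.liftL_act, T.liftL_act, act_inv, LinearMap.neg_apply,
              LinearMap.neg_apply, cj_apply, Matrix.mulVec_neg]
        have hsum : T.cof f (T.liftR h) w = C - cj (sGL (qf α) α u a) C := by
          rw [← he, mul_assoc n', mul_assoc n', Unip.cof_mul T H hn' hQ hw1, hcQ, ← sub_eq_add_neg]
        have hscalar : T.cof f (T.liftR h) w ∈ Submodule.span F {(1 : Module.End F (κ → F))} :=
          Submodule.mem_span_singleton.2 ⟨β (h.val *ᵥ w - w) f, LinearMap.ext fun c => by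
            rw [T.cof_apply, T.liftR_act, ← map_sub, T.ctr_tau]
            simp⟩
        obtain ⟨d, hd⟩ := Submodule.mem_span_singleton.1 hscalar
        rw [hsum] at hd
        have hcj1 : cj (sGL (qf α) α u a) (1 : Module.End F (κ → F)) = 1 :=
          LinearMap.ext fun c => by simp [cj_apply]
        refine Submodule.mem_span_pair.2 ⟨s, t - s * d, ?_⟩
        rw [map_add, map_smul, map_smul, hcj1,
          show cj (sGL (qf α) α u a) C = C - d • 1 by rw [hd]; abel]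
        module)
      C (Submodule.subset_span (by simp))
    exact Submodule.mem_span_singleton.2 ⟨c, hc.symm⟩
  have hcommL : ∀ u a, qf α u = 0 → α u a = 0 →
      n' * T.swap.liftR (sGL (qf α) α u a) = T.swap.liftR (sGL (qf α) α u a) * n' := by
    intro u a hu hua
    obtain ⟨h, hhI, he⟩ := hrel u a hu hua
    set P := T.swap.liftR (sGL (qf α) α u a) with hPdef
    have hPI : P ∈ isometryGroup F Q := T.swap.liftR_mem (sGL_mem T.SU hu hua)
    have hQ : Unip T x (P * n'⁻¹ * P⁻¹) :=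
      Unip.conj T H hPI (fun c => ⟨_, T.liftL_act _ c x⟩) (hn'.inv T)
    have hj : Unip T x (T.liftR h) := by
      rw [← he, mul_assoc n', mul_assoc n']; exact hn'.mul T hQ
    have h1 : h = 1 := fix_perp_eq_one T H hhI fun w hw => by
      obtain ⟨r, hr, ew⟩ := exists_split T.SW H w
      have hr1 := (mem_perp2.1 hr).2.1
      obtain ⟨c, hc⟩ := Submodule.mem_span_singleton.1 (hscal r hr)
      have hcQ : T.cof f (P * n'⁻¹ * P⁻¹) r = -(c • 1) := Unip.cof_eq T H fun z => by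
        have hinvp : (P⁻¹ : GL ι F).val *ᵥ τ z r =
            τ (((sGL (qf α) α u a)⁻¹ : GL κ F).val *ᵥ z) r := by
          rw [hPdef, ← map_inv, T.liftL_act]
        rw [mul_act, mul_act, hinvp, (hn'.inv T).act T H hr1, Unip.cof_inv T H hn' hr1, ← hc,
          Matrix.mulVec_add, hPdef, T.liftL_act, T.liftL_act, act_inv, LinearMap.neg_apply,
          LinearMap.smul_apply, Module.End.one_apply, Matrix.mulVec_neg, Matrix.mulVec_smul, act_inv]
        rfl
      have hc0 : T.cof f (T.liftR h) r = 0 := by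
        rw [← he, mul_assoc n', mul_assoc n', Unip.cof_mul T H hn' hQ hr1, hcQ, hc, add_neg_cancel]
      have e1 := hj.act T H hr1 u₀
      rw [hc0, LinearMap.zero_apply, map_zero, LinearMap.zero_apply, add_zero, T.liftR_act] at e1
      have hx1 := T.swap.tau_inj hu₀0 ((hj.1 u₀).symm.trans (T.liftR_act h u₀ x))
      rw [ew, hw]
      simp only [Matrix.mulVec_add, Matrix.mulVec_smul, zero_smul, add_zero, Matrix.mulVec_zero,
        ← hx1, T.swap.tau_inj hu₀0 e1]
    rw [h1, map_one] at he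
    exact mul_inv_eq_iff_eq_mul.1 (mul_inv_eq_one.1 he)
  -- the remainder is a Siegel element
  obtain ⟨a₁, ha₁, hcof⟩ := exists_siegel_cof T H hκ hscal
  obtain ⟨-, ha11, -⟩ := mem_perp2.1 ha₁
  set s₁ := T.liftR (sGL (qf β) β x a₁)
  have hs₁ : Unip T x s₁ := unip_siegel T H ha11
  have hs₁I : s₁ ∈ isometryGroup F Q := T.liftR_mem (sGL_mem T.SW H.singE ha11)
  have hfix : ∀ u w, β x w = 0 → (s₁⁻¹ * n').val *ᵥ τ u w = τ u w := by
    intro u w hw
    obtain ⟨r, hr, ew⟩ := exists_split T.SW H w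
    have hr1 := (mem_perp2.1 hr).2.1
    have hh := hs₁.inv T |>.mul T hn'
    rw [ew, hw, zero_smul, add_zero, map_add, map_smul, Matrix.mulVec_add, Matrix.mulVec_smul, hh.1,
      hh.act T H hr1, Unip.cof_mul T H (hs₁.inv T) hn' hr1, Unip.cof_inv T H hs₁ hr1, hcof r hr]
    simp
  obtain ⟨φ, hφ⟩ := long_of_fix T H (mul_mem (inv_mem hs₁I) hn'I) hfix
  have hφskew := long_skew T (le_refl _) H.singE (hyp_ne_zero T H)
    (φ := φ) ⟨_, mul_mem (inv_mem hs₁I) hn'I, hφ⟩
  obtain ⟨ν₁, ν₂, G⟩ := exists_hyp' T.SU T.SU.ndeg_top (by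
    rw [finrank_top, finrank_fintype_fun_eq_card]; exact hm)
  have hφ0 : φ = 0 := eq_zero_of_fixed T.SU T.h2 G hm hφskew fun u a c hu hua => by
    set p := sGL (qf α) α u a
    have hc : (s₁⁻¹ * n') * T.swap.liftR p = T.swap.liftR p * (s₁⁻¹ * n') := by
      have hc2 : s₁⁻¹ * T.swap.liftR p = T.swap.liftR p * s₁⁻¹ := by
        rw [← map_inv, T.lift_comm]
      rw [mul_assoc, hcommL u a hu hua, ← mul_assoc (s₁⁻¹), hc2, mul_assoc]
    have h1 := congrArg (fun g : GL ι F => g.val *ᵥ τ c f) hc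
    simp only [mul_act (T.swap.liftR p), mul_act (s₁⁻¹ * n'), T.liftL_act, hφ, T.long_tau,
      H.pair' T.SW, one_smul, Matrix.mulVec_add] at h1
    exact T.tau_inj (hyp_ne_zero T H) (add_left_cancel h1).symm
  have hn'eq : n' = s₁ := by
    refine (inv_mul_eq_one.1 (Orth.gl_ext fun v => ?_)).symm
    rw [hφ, hφ0, T.long_apply]
    simp
  refine mem_pureGroup.1 ?_
  rw [show n = π * n' by rw [hn'def, mul_inv_cancel_left], hn'eq]
  exact (pureGroup τ).mul_mem ⟨pG, qG, hπact⟩ (T.liftR_pure _)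

/-- An element preserving `U ⊗ x` acts factorwise. -/
theorem pure_of_stab [Finite F] (hR : Ranks α μ) {n : GL ι F} (hn : n ∈ L)
    (hnx : ∀ u, ∃ u', n.val *ᵥ τ u x = τ u' x) : Pure τ n :=
  pure_of_stab' T H hlose hL hR.hm (le_trans (by norm_num) hR.hk) hR.hq
    (fun hg hu => unip_eq T H hlose hL hR hg hu) hn hnx

end Cfsg.Lib.Linear.OOTensor
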