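import Cfsg.Agent.Lib.Linear.SpTensor.Ten

/-!
# A product of two orthogonal spaces

The contraction against a vector of the second factor and the factorwise elements.
-/

set_option autoImplicit false
set_option linter.unusedSectionVars false

namespace Cfsg.Lib.Linear.OOTensor

open Module
open scoped Matrix
open Cfsg.Lib.Linear.Orth

variable {ι κ μ : Type} [Fintype ι] [DecidableEq ι] [Fintype κ] [DecidableEq κ] [Fintype μ]
  [DecidableEq μ] {F : Type*} [Field F] {Q : (ι → F) → F} {B : LinearMap.BilinForm F (ι → F)}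
  {α : LinearMap.BilinForm F (κ → F)} {β : LinearMap.BilinForm F (μ → F)}
  {τ : (κ → F) →ₗ[F] (μ → F) →ₗ[F] (ι → F)}

/-- The quadratic form of a symmetric form. -/
def qf (β : LinearMap.BilinForm F (μ → F)) (x : μ → F) : F := (2 : F)⁻¹ * β x x

/-- The space is the product of two orthogonal spaces. -/
structure Ten (Q : (ι → F) → F) (B : LinearMap.BilinForm F (ι → F))
    (α : LinearMap.BilinForm F (κ → F)) (β : LinearMap.BilinForm F (μ → F))
    (τ : (κ → F) →ₗ[F] (μ → F) →ₗ[F] (ι → F)) : Prop where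
  h2 : (2 : F) ≠ 0
  space : Space Q B
  nα : ∀ a, (∀ b, α a b = 0) → a = 0
  sα : ∀ a b, α a b = α b a
  nβ : ∀ x, (∀ y, β x y = 0) → x = 0
  sβ : ∀ x y, β x y = β y x
  pair : ∀ a x b y, B (τ a x) (τ b y) = α a b * β x y
  span : Submodule.span F (Set.range fun p : (κ → F) × (μ → F) => τ p.1 p.2) = ⊤

namespace Ten

variable (T : Ten Q B α β τ)
include T

theorem swap : Ten Q B β α τ.flip :=
  ⟨T.h2, T.space, T.nβ, T.sβ, T.nα, T.sα,
    fun a x b y => by simp only [LinearMap.flip_apply, T.pair, mul_comm],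
    eq_top_iff.2 <| T.span ▸ Submodule.span_le.2 (by
      rintro _ ⟨⟨a, x⟩, rfl⟩
      exact Submodule.subset_span ⟨(x, a), rfl⟩)⟩

theorem SW : Space (qf β) β := by
  refine ⟨fun c v => ?_, fun u v => ?_, fun v h => T.nβ v fun y => ?_⟩
  · simp [qf]; ring
  · simp only [QuadraticMap.polar, qf, map_add, LinearMap.add_apply, T.sβ v u]
    field_simp [T.h2]
    ring
  · rw [T.sβ]; exact h y

theorem SU : Space (qf α) α := T.swap.SW

theorem qf_zero {x : μ → F} : qf β x = 0 ↔ β x x = 0 := by simp [qf, T.h2]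

theorem Q_eq (v : ι → F) : Q v = (2 : F)⁻¹ * B v v := by
  rw [T.space.self]; field_simp [T.h2]

theorem Q_tau (a : κ → F) (x : μ → F) : Q (τ a x) = (2 : F)⁻¹ * (α a a * β x x) := by
  rw [T.Q_eq, T.pair]

theorem sing (a : κ → F) {x : μ → F} (hx : qf β x = 0) : Q (τ a x) = 0 := by
  rw [T.Q_tau, T.qf_zero.1 hx, mul_zero, mul_zero]

theorem nα' : α.Nondegenerate :=
  ⟨T.nα, fun a h => T.nα a fun b => by rw [T.sα]; exact h b⟩

theorem α_ext {a b : κ → F} (h : ∀ c, α a c = α b c) : a = b := by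
  refine sub_eq_zero.1 (T.nα _ fun c => ?_)
  rw [map_sub, LinearMap.sub_apply, h, sub_self]

/-- The contraction against a vector of the second factor. -/
noncomputable def ctr : (μ → F) →ₗ[F] (ι → F) →ₗ[F] (κ → F) :=
  LinearMap.mk₂ F (fun x v => (α.toDual T.nα').symm ((B v) ∘ₗ τ.flip x))
    (fun x x' v => by rw [← map_add]; congr 1; ext c; simp)
    (fun t x v => by rw [← map_smul]; congr 1; ext c; simp)
    (fun x v v' => by rw [← map_add]; congr 1; ext c; simp)
    (fun t x v => by rw [← map_smul]; congr 1; ext c; simp)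

theorem α_ctr (x : μ → F) (v : ι → F) (c : κ → F) : α (T.ctr x v) c = B v (τ c x) := by
  simp [ctr, LinearMap.BilinForm.apply_toDual_symm_apply]

theorem α_ctr' (x : μ → F) (v : ι → F) (c : κ → F) : α c (T.ctr x v) = B (τ c x) v := by
  rw [T.sα, T.α_ctr, T.space.symm]

theorem ctr_tau (z : μ → F) (a : κ → F) (x : μ → F) : T.ctr z (τ a x) = β x z • a := by
  refine T.α_ext fun c => ?_
  rw [T.α_ctr, T.pair, map_smul, LinearMap.smul_apply, smul_eq_mul, mul_comm]

theorem hom_ext {X : Type*} [AddCommGroup X] [Module F X] {f g : (ι → F) →ₗ[F] X}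
    (h : ∀ a x, f (τ a x) = g (τ a x)) : f = g :=
  LinearMap.ext_on T.span (by rintro _ ⟨p, rfl⟩; exact h p.1 p.2)

theorem eq_of_ctr {v v' : ι → F} (h : ∀ z, T.ctr z v = T.ctr z v') : v = v' := by
  refine sub_eq_zero.1 (T.space.nondeg' fun u => ?_)
  have e : B (v - v') = 0 := T.hom_ext (f := B (v - v')) (g := 0) fun a x => by
    rw [← T.α_ctr, map_sub, h, sub_self, map_zero, LinearMap.zero_apply, LinearMap.zero_apply]
  rw [e, LinearMap.zero_apply]

theorem gl_ext {g h : GL ι F} (e : ∀ a x, g.val *ᵥ τ a x = h.val *ᵥ τ a x) : g = h :=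
  Orth.gl_ext fun v => LinearMap.congr_fun
    (T.hom_ext (f := Matrix.mulVecLin g.val) (g := Matrix.mulVecLin h.val) fun a x => e a x) v

theorem exists_one {x : μ → F} (hx : x ≠ 0) : ∃ y, β x y = 1 := T.SW.exists_pair hx

theorem tau_inj {x : μ → F} (hx : x ≠ 0) {a b : κ → F} (h : τ a x = τ b x) : a = b := by
  obtain ⟨y, hy⟩ := T.exists_one hx
  have h1 := congrArg (T.ctr y) h
  rwa [T.ctr_tau, T.ctr_tau, hy, one_smul, one_smul] at h1

theorem tau_ne_zero {a : κ → F} {x : μ → F} (ha : a ≠ 0) (hx : x ≠ 0) : τ a x ≠ 0 := fun h =>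
  ha (T.tau_inj hx (b := 0) (by rw [h, map_zero, LinearMap.zero_apply]))

theorem exists_aniso_left (h : 0 < Fintype.card κ) : ∃ a : κ → F, α a a ≠ 0 := by
  obtain ⟨a, -, ha⟩ := Orth.exists_nonsing T.SU T.SU.ndeg_top (fun h0 => by
    have := congrArg (fun S : Submodule F (κ → F) => finrank F S) h0
    rw [finrank_top, finrank_fintype_fun_eq_card, finrank_bot] at this
    omega)
  exact ⟨a, fun h0 => ha (T.swap.qf_zero.2 h0)⟩

/-! ## Factorwise maps -/

/-- The map acting factorwise. -/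
noncomputable def pmap (p : (κ → F) →ₗ[F] (κ → F)) (q : (μ → F) →ₗ[F] (μ → F)) :
    (ι → F) →ₗ[F] (ι → F) :=
  ∑ i, τ.flip (q (Pi.single i 1)) ∘ₗ p ∘ₗ
    T.ctr ((β.toDual T.swap.nα').symm (LinearMap.proj i))

theorem pmap_tau (p : (κ → F) →ₗ[F] (κ → F)) (q : (μ → F) →ₗ[F] (μ → F)) (a : κ → F) (x : μ → F) :
    T.pmap p q (τ a x) = τ (p a) (q x) := by
  simp only [pmap, LinearMap.sum_apply, LinearMap.comp_apply, T.ctr_tau, T.sβ x, map_smul,
    LinearMap.flip_apply]
  conv_rhs => rw [pi_eq_sum_univ' x, map_sum, map_sum]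
  simp only [map_smul]
  refine Finset.sum_congr rfl fun i _ => ?_
  rw [LinearMap.BilinForm.apply_toDual_symm_apply]
  rfl

/-- The element acting factorwise. -/
noncomputable def mkGL (p : GL κ F) (q : GL μ F) : GL ι F :=
  toGL (LinearMap.toMatrix' (T.pmap (Matrix.mulVecLin p.val) (Matrix.mulVecLin q.val)))

theorem mkGL_act (p : GL κ F) (q : GL μ F) (a : κ → F) (x : μ → F) :
    (T.mkGL p q).val *ᵥ τ a x = τ (p.val *ᵥ a) (q.val *ᵥ x) := by
  rw [mkGL, toGL_val (M' := LinearMap.toMatrix'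
    (T.pmap (Matrix.mulVecLin (p⁻¹).val) (Matrix.mulVecLin (q⁻¹).val))) ?_,
    LinearMap.toMatrix'_mulVec, T.pmap_tau]
  · rfl
  rw [← LinearMap.toMatrix'_comp, ← LinearMap.toMatrix'_id]
  congr 1
  refine T.hom_ext fun a x => ?_
  simp only [LinearMap.comp_apply, T.pmap_tau, Matrix.mulVecLin_apply, act_inv, LinearMap.id_apply]

theorem mkGL_mul (p p' : GL κ F) (q q' : GL μ F) :
    T.mkGL p q * T.mkGL p' q' = T.mkGL (p * p') (q * q') :=
  T.gl_ext fun a x => by rw [mul_act, T.mkGL_act, T.mkGL_act, T.mkGL_act, mul_act, mul_act]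

/-- The second factor acting alone. -/
noncomputable def liftR : GL μ F →* GL ι F where
  toFun q := T.mkGL 1 q
  map_one' := T.gl_ext fun a x => by simp [T.mkGL_act]
  map_mul' q q' := by rw [T.mkGL_mul, mul_one]

theorem liftR_act (q : GL μ F) (a : κ → F) (x : μ → F) :
    (T.liftR q).val *ᵥ τ a x = τ a (q.val *ᵥ x) := by
  show (T.mkGL 1 q).val *ᵥ τ a x = _
  rw [T.mkGL_act, Units.val_one, Matrix.one_mulVec]

theorem liftL_act (p : GL κ F) (a : κ → F) (x : μ → F) :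
    (T.swap.liftR p).val *ᵥ τ a x = τ (p.val *ᵥ a) x := T.swap.liftR_act p x a

/-- A similitude on each factor gives an isometry. -/
theorem mem_iso_of {g : GL ι F} {p : GL κ F} {q : GL μ F} {ν : F} (hν : ν ≠ 0)
    (hg : ∀ a x, g.val *ᵥ τ a x = τ (p.val *ᵥ a) (q.val *ᵥ x))
    (hp : ∀ a b, α (p.val *ᵥ a) (p.val *ᵥ b) = ν * α a b)
    (hq : ∀ x y, β (q.val *ᵥ x) (q.val *ᵥ y) = ν⁻¹ * β x y) : g ∈ isometryGroup F Q := by
  refine mem_iso.2 fun v => ?_
  have e : B.comp (Matrix.mulVecLin g.val) (Matrix.mulVecLin g.val) = B :=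
    T.hom_ext fun a x => T.hom_ext fun b y => by
      simp only [LinearMap.BilinForm.comp_apply, Matrix.mulVecLin_apply, hg, T.pair, hp, hq]
      field_simp
  rw [T.Q_eq, T.Q_eq]
  exact congrArg _ (LinearMap.congr_fun₂ e v v)

theorem liftR_mem {q : GL μ F} (hq : q ∈ isometryGroup F (qf β)) :
    T.liftR q ∈ isometryGroup F Q :=
  T.mem_iso_of one_ne_zero (p := 1) (q := q)
    (fun a x => by rw [T.liftR_act, Units.val_one, Matrix.one_mulVec])
    (fun a b => by simp) fun x y => by rw [T.SW.B_act hq, inv_one, one_mul]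

end Ten

/-! ## Elements acting factorwise -/

/-- The element acts factorwise. -/
def Pure (τ : (κ → F) →ₗ[F] (μ → F) →ₗ[F] (ι → F)) (g : GL ι F) : Prop :=
  ∃ p : GL κ F, ∃ q : GL μ F, ∀ a x, g.val *ᵥ τ a x = τ (p.val *ᵥ a) (q.val *ᵥ x)

/-- The elements acting factorwise form a group. -/
def pureGroup (τ : (κ → F) →ₗ[F] (μ → F) →ₗ[F] (ι → F)) : Subgroup (GL ι F) where
  carrier := {g | Pure τ g}
  one_mem' := ⟨1, 1, fun a x => by simp⟩
  mul_mem' := by
    rintro g g' ⟨p, q, h⟩ ⟨p', q', h'⟩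
    exact ⟨p * p', q * q', fun a x => by rw [mul_act, h', h, mul_act, mul_act]⟩
  inv_mem' := by
    rintro g ⟨p, q, h⟩
    refine ⟨p⁻¹, q⁻¹, fun a x => ?_⟩
    have h1 := h ((p⁻¹).val *ᵥ a) ((q⁻¹).val *ᵥ x)
    rw [act_inv, act_inv] at h1
    rw [← h1, inv_act]

theorem mem_pureGroup {g : GL ι F} : g ∈ pureGroup τ ↔ Pure τ g := Iff.rfl

theorem Ten.liftR_pure (T : Ten Q B α β τ) (q : GL μ F) : Pure τ (T.liftR q) :=
  ⟨1, q, fun a x => by rw [T.liftR_act, Units.val_one, Matrix.one_mulVec]⟩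

theorem Pure.sim (T : Ten Q B α β τ) (hκ : 0 < Fintype.card κ) (hμ : 0 < Fintype.card μ)
    {g : GL ι F} (hg : g ∈ isometryGroup F Q) {p : GL κ F} {q : GL μ F}
    (h : ∀ a x, g.val *ᵥ τ a x = τ (p.val *ᵥ a) (q.val *ᵥ x)) :
    ∃ ν : F, ν ≠ 0 ∧ (∀ a b, α (p.val *ᵥ a) (p.val *ᵥ b) = ν * α a b) ∧
      ∀ x y, β (q.val *ᵥ x) (q.val *ᵥ y) = ν⁻¹ * β x y := by
  have key : ∀ a b x y, α (p.val *ᵥ a) (p.val *ᵥ b) * β (q.val *ᵥ x) (q.val *ᵥ y)
      = α a b * β x y := fun a b x y => by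
    rw [← T.pair, ← T.pair, ← h, ← h, T.space.B_act hg]
  obtain ⟨a, ha⟩ := T.exists_aniso_left hκ
  obtain ⟨x, hx⟩ := T.swap.exists_aniso_left hμ
  have h1 := key a a x x
  have hx' : β (q.val *ᵥ x) (q.val *ᵥ x) ≠ 0 := fun e => mul_ne_zero ha hx (by rw [← h1, e, mul_zero])
  set ν := β x x / β (q.val *ᵥ x) (q.val *ᵥ x) with hν
  have hν0 : ν ≠ 0 := div_ne_zero hx hx'
  have hp : ∀ a b, α (p.val *ᵥ a) (p.val *ᵥ b) = ν * α a b := fun a b => by
    have h2 := key a b x x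
    rw [hν]
    field_simp
    linear_combination h2
  refine ⟨ν, hν0, hp, fun y z => ?_⟩
  have h2 := key a a y z
  rw [hp] at h2
  field_simp
  exact mul_left_cancel₀ ha (by linear_combination h2)

/-- A subgroup of the isometry group containing the Siegel elements of both factors. -/
structure Over (T : Ten Q B α β τ) (L : Subgroup (GL ι F)) : Prop where
  le : L ≤ isometryGroup F Q
  right : ∀ x a, qf β x = 0 → β x a = 0 → T.liftR (sGL (qf β) β x a) ∈ L
  left : ∀ x a, qf α x = 0 → α x a = 0 → T.swap.liftR (sGL (qf α) α x a) ∈ L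

theorem Over.root {T : Ten Q B α β τ} {L : Subgroup (GL ι F)} (hL : Over T L) {h : GL μ F}
    (hh : h ∈ Root (qf β) β ⊤) : T.liftR h ∈ L :=
  (show Root (qf β) β ⊤ ≤ L.comap T.liftR from (Subgroup.closure_le _).2 fun _ hg => by
    obtain ⟨u, a, -, -, hu, hua, rfl⟩ := hg
    exact hL.right u a hu hua) hh

end Cfsg.Lib.Linear.OOTensor
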