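import Cfsg.Agent.Lib.Linear.OOTensor.Full

/-!
# The unipotent radical of the stabiliser of a totally singular factor space

An element of the group trivial on `U ⊗ x` and on the quotient of its perpendicular space by it is
a Siegel element of the second factor.
-/

set_option autoImplicit false
set_option linter.unusedSectionVars false
set_option linter.unusedSimpArgs false

namespace Cfsg.Lib.Linear.OOTensor

open Module
open scoped Matrix
open Cfsg.Lib.Linear.Orth
open Cfsg.Lib.Linear.SpTensor (InA)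

variable {ι κ μ : Type} [Fintype ι] [DecidableEq ι] [Fintype κ] [DecidableEq κ] [Fintype μ]
  [DecidableEq μ] {F : Type*} [Field F] {Q : (ι → F) → F} {B : LinearMap.BilinForm F (ι → F)}
  {α : LinearMap.BilinForm F (κ → F)} {β : LinearMap.BilinForm F (μ → F)}
  {τ : (κ → F) →ₗ[F] (μ → F) →ₗ[F] (ι → F)} {L : Subgroup (GL ι F)} (T : Ten Q B α β τ)
  {x f : μ → F} (H : Hyp (qf β) β ⊤ x f)

/-- Trivial on `U ⊗ x` and on the quotient of its perpendicular space. -/
def Unip (x : μ → F) (g : GL ι F) : Prop :=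
  (∀ u, g.val *ᵥ τ u x = τ u x) ∧ ∀ v, T.ctr x v = 0 → ∃ u, g.val *ᵥ v = v + τ u x

/-- The coefficient of an element at a vector of the second factor. -/
noncomputable def Ten.cof (f : μ → F) (g : GL ι F) : (μ → F) →ₗ[F] Module.End F (κ → F) where
  toFun w := T.ctr f ∘ₗ (Matrix.mulVecLin g.val - LinearMap.id) ∘ₗ τ.flip w
  map_add' w w' := LinearMap.ext fun u => by simp [Matrix.mulVec_add]; abel
  map_smul' c w := LinearMap.ext fun u => by simp [Matrix.mulVec_smul, smul_sub]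

include T

theorem Ten.cof_apply (f : μ → F) (g : GL ι F) (w : μ → F) (u : κ → F) :
    T.cof f g w u = T.ctr f (g.val *ᵥ τ u w - τ u w) := rfl

theorem unip_one (x : μ → F) : Unip T x 1 :=
  ⟨fun u => by simp, fun v _ => ⟨0, by simp⟩⟩

theorem Unip.mul {g h : GL ι F} (hg : Unip T x g) (hh : Unip T x h) : Unip T x (g * h) := by
  refine ⟨fun u => by rw [mul_act, hh.1, hg.1], fun v hv => ?_⟩
  obtain ⟨u, hu⟩ := hh.2 v hv
  obtain ⟨u', hu'⟩ := hg.2 v hv
  exact ⟨u' + u, by
    rw [mul_act, hu, Matrix.mulVec_add, hu', hg.1, map_add, LinearMap.add_apply]; abel⟩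

theorem Unip.inv {g : GL ι F} (hg : Unip T x g) : Unip T x g⁻¹ := by
  have h1 : ∀ u, (g⁻¹ : GL ι F).val *ᵥ τ u x = τ u x := fun u => by
    conv_lhs => rw [← hg.1 u]
    rw [inv_act]
  refine ⟨h1, fun v hv => ?_⟩
  obtain ⟨u, hu⟩ := hg.2 v hv
  refine ⟨-u, ?_⟩
  have h2 := congrArg ((g⁻¹ : GL ι F).val *ᵥ ·) hu
  simp only [inv_act, Matrix.mulVec_add, h1] at h2
  rw [map_neg, LinearMap.neg_apply, ← sub_eq_add_neg, eq_sub_iff_add_eq]
  exact h2.symm

include H

theorem hyp_ne_zero : x ≠ 0 := fun e => by simpa [e] using H.pair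

/-- The contractions determine a vector. -/
theorem Ten.ext3 {v v' : ι → F} (hx : T.ctr x v = T.ctr x v') (hf : T.ctr f v = T.ctr f v')
    (hr : ∀ r ∈ perp2 β ⊤ x f, T.ctr r v = T.ctr r v') : v = v' := by
  refine T.eq_of_ctr fun z => ?_
  obtain ⟨r, hr', ez⟩ := exists_split T.SW H z
  rw [ez]
  simp only [map_add, map_smul, LinearMap.add_apply, LinearMap.smul_apply, hx, hf, hr r hr']

/-- Preserving `U ⊗ x` one way gives a bijection of `U`. -/
theorem exists_line_map {g : GL ι F} (hg : ∀ u, ∃ u', g.val *ᵥ τ u x = τ u' x) :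
    ∃ ψ : Module.End F (κ → F), Function.Bijective ψ ∧ ∀ u, g.val *ᵥ τ u x = τ (ψ u) x := by
  let ψ : Module.End F (κ → F) := T.ctr f ∘ₗ Matrix.mulVecLin g.val ∘ₗ τ.flip x
  have hψ : ∀ u, g.val *ᵥ τ u x = τ (ψ u) x := fun u => by
    obtain ⟨u', hu'⟩ := hg u
    simp [ψ, hu', T.ctr_tau, H.pair]
  have hinj : Function.Injective ψ := fun a b hab => by
    refine T.tau_inj (hyp_ne_zero T H) (Orth.act_injective g ?_)
    show g.val *ᵥ τ a x = g.val *ᵥ τ b x
    rw [hψ, hψ, hab]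
  exact ⟨ψ, ⟨hinj, LinearMap.surjective_of_injective hinj⟩, hψ⟩

theorem Ten.ctr_inv {g : GL ι F} (hg : g ∈ isometryGroup F Q) {ψ : Module.End F (κ → F)}
    (hψ : ∀ u, g.val *ᵥ τ u x = τ (ψ u) x) {v : ι → F} (hv : T.ctr x v = 0) :
    T.ctr x ((g⁻¹ : GL ι F).val *ᵥ v) = 0 :=
  T.α_ext fun c => by
    rw [T.α_ctr, ← T.space.B_act hg, act_inv, hψ, ← T.α_ctr, hv]
    simp

theorem Unip.conj {g h : GL ι F} (hg : g ∈ isometryGroup F Q)
    (hx : ∀ u, ∃ u', g.val *ᵥ τ u x = τ u' x) (hh : Unip T x h) : Unip T x (g * h * g⁻¹) := by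
  obtain ⟨ψ, hbij, hψ⟩ := exists_line_map T H hx
  refine ⟨fun u => ?_, fun v hv => ?_⟩
  · obtain ⟨u', rfl⟩ := hbij.2 u
    rw [mul_act, mul_act, ← hψ, inv_act, hh.1]
  · obtain ⟨u, hu⟩ := hh.2 _ (T.ctr_inv H hg hψ hv)
    exact ⟨ψ u, by rw [mul_act, mul_act, hu, Matrix.mulVec_add, act_inv, hψ]⟩

theorem Unip.act {g : GL ι F} (hg : Unip T x g) {w : μ → F} (hw : β x w = 0) (u : κ → F) :
    g.val *ᵥ τ u w = τ u w + τ (T.cof f g w u) x := by
  obtain ⟨u', hu'⟩ := hg.2 (τ u w) (by rw [T.ctr_tau, T.sβ, hw, zero_smul])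
  rw [T.cof_apply, hu', add_sub_cancel_left, T.ctr_tau, H.pair, one_smul]

theorem Unip.cof_eq {g : GL ι F} {w : μ → F} {C : Module.End F (κ → F)}
    (h : ∀ u, g.val *ᵥ τ u w = τ u w + τ (C u) x) : T.cof f g w = C :=
  LinearMap.ext fun u => by rw [T.cof_apply, h, add_sub_cancel_left, T.ctr_tau, H.pair, one_smul]

theorem Unip.cof_mul {g h : GL ι F} (hg : Unip T x g) (hh : Unip T x h) {w : μ → F}
    (hw : β x w = 0) : T.cof f (g * h) w = T.cof f g w + T.cof f h w :=
  Unip.cof_eq T H fun u => by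
    rw [mul_act, hh.act T H hw, Matrix.mulVec_add, hg.act T H hw, hg.1, LinearMap.add_apply, map_add,
      LinearMap.add_apply]
    abel

theorem Unip.cof_inv {g : GL ι F} (hg : Unip T x g) {w : μ → F}
    (hw : β x w = 0) : T.cof f g⁻¹ w = -T.cof f g w := by
  have h1 := Unip.cof_mul T H hg (hg.inv T) hw
  rw [mul_inv_cancel] at h1
  have h2 : T.cof f (1 : GL ι F) w = 0 := Unip.cof_eq T H fun u => by simp
  rw [h2] at h1
  exact eq_neg_of_add_eq_zero_right h1.symm

/-- An isometry fixing `U ⊗ x^⊥` is long. -/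
theorem long_of_fix {h : GL ι F} (hh : h ∈ isometryGroup F Q)
    (hfix : ∀ u w, β x w = 0 → h.val *ᵥ τ u w = τ u w) :
    ∃ φ : Module.End F (κ → F), ∀ v, h.val *ᵥ v = v + T.long x φ v := by
  let φ : Module.End F (κ → F) := T.ctr f ∘ₗ (Matrix.mulVecLin h.val - LinearMap.id) ∘ₗ τ.flip f
  suffices e : Matrix.mulVecLin h.val = LinearMap.id + T.long x φ from
    ⟨φ, fun v => by simpa using LinearMap.congr_fun e v⟩
  refine T.hom_ext fun a w => ?_
  obtain ⟨r, hr, ew⟩ := exists_split T.SW H w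
  obtain ⟨-, hr1, hr2⟩ := mem_perp2.1 hr
  have hd : ∀ z, β x z = 0 → T.ctr z (h.val *ᵥ τ a f - τ a f) = 0 := fun z hz =>
    T.α_ext fun c => by
      rw [T.α_ctr, map_sub, LinearMap.sub_apply, map_zero, LinearMap.zero_apply, sub_eq_zero]
      conv_lhs => rw [← hfix c z hz, T.space.B_act hh]
  have hf : h.val *ᵥ τ a f = τ a f + τ (φ a) x := by
    refine eq_add_of_sub_eq' (T.ext3 H ?_ ?_ fun z hz => ?_)
    · rw [hd x (T.qf_zero.1 H.singE), T.ctr_tau, T.qf_zero.1 H.singE, zero_smul]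
    · rw [T.ctr_tau, H.pair, one_smul]
      rfl
    · rw [hd z (mem_perp2.1 hz).2.1, T.ctr_tau, (mem_perp2.1 hz).2.1, zero_smul]
  have hwx : β w x = β x w := T.sβ _ _
  simp only [Matrix.mulVecLin_apply, LinearMap.add_apply, LinearMap.id_apply, T.long_tau, hwx]
  conv_lhs => rw [ew]
  conv_rhs => arg 1; rw [ew]
  simp only [map_add, map_smul, Matrix.mulVec_add, Matrix.mulVec_smul, hf,
    hfix a x (T.qf_zero.1 H.singE), hfix a r hr1]
  module

/-- The coefficients determine an element of the group. -/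
theorem Unip.ext (hlose : Losing T L) (hL : Over T L) {g g' : GL ι F} (hgL : g ∈ L) (hgL' : g' ∈ L)
    (hg : Unip T x g) (hg' : Unip T x g')
    (h : ∀ w ∈ perp2 β ⊤ x f, T.cof f g w = T.cof f g' w) : g = g' := by
  have hh := hg'.inv T |>.mul T hg
  have hfix : ∀ u w, β x w = 0 → (g'⁻¹ * g).val *ᵥ τ u w = τ u w := by
    intro u w hw
    obtain ⟨r, hr, ew⟩ := exists_split T.SW H w
    have hrx := (mem_perp2.1 hr).2.1
    rw [ew, hw, zero_smul, add_zero, map_add, map_smul, Matrix.mulVec_add, Matrix.mulVec_smul, hh.1,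
      hh.act T H hrx, Unip.cof_mul T H (hg'.inv T) hg hrx, Unip.cof_inv T H hg' hrx, h r hr]
    simp
  obtain ⟨φ, hφ⟩ := long_of_fix T H (mul_mem (inv_mem (hL.le hgL')) (hL.le hgL)) hfix
  have h0 : φ = 0 := hlose x φ H.singE (hyp_ne_zero T H)
    ⟨_, mul_mem (inv_mem hgL') hgL, hφ⟩
  refine (inv_mul_eq_one.1 (Orth.gl_ext fun v => ?_)).symm
  rw [hφ, h0, T.long_apply]
  simp

/-- Elements of the radical commute. -/
theorem Unip.comm (hlose : Losing T L) (hL : Over T L) {g g' : GL ι F} (hgL : g ∈ L) (hgL' : g' ∈ L)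
    (hg : Unip T x g) (hg' : Unip T x g') : g * g' = g' * g :=
  Unip.ext T H hlose hL (mul_mem hgL hgL') (mul_mem hgL' hgL) (hg.mul T hg') (hg'.mul T hg)
    fun w hw => by
      rw [Unip.cof_mul T H hg hg' (mem_perp2.1 hw).2.1, Unip.cof_mul T H hg' hg (mem_perp2.1 hw).2.1,
        add_comm]

theorem Ten.liftR_sGL_act {a : μ → F} (ha : β x a = 0) (v : ι → F) :
    (T.liftR (sGL (qf β) β x a)).val *ᵥ v =
      v + τ (T.ctr x v) a - τ (T.ctr a v + qf β a • T.ctr x v) x := by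
  have e : Matrix.mulVecLin (T.liftR (sGL (qf β) β x a)).val =
      LinearMap.id + τ.flip a ∘ₗ T.ctr x - τ.flip x ∘ₗ (T.ctr a + qf β a • T.ctr x) :=
    T.hom_ext fun u w => by
      simp only [Matrix.mulVecLin_apply, T.liftR_act, sGL_act T.SW H.singE ha, LinearMap.sub_apply,
        LinearMap.add_apply, LinearMap.id_apply, LinearMap.comp_apply, LinearMap.flip_apply,
        LinearMap.smul_apply, T.ctr_tau, map_add, map_sub, map_smul, T.sβ w]
      module
  exact LinearMap.congr_fun e v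

theorem unip_siegel {a : μ → F} (ha : β x a = 0) : Unip T x (T.liftR (sGL (qf β) β x a)) := by
  refine ⟨fun u => ?_, fun v hv => ⟨-T.ctr a v, ?_⟩⟩
  · rw [T.liftR_act, sGL_act T.SW H.singE ha, T.qf_zero.1 H.singE, T.sβ a x, ha]
    simp
  · rw [T.liftR_sGL_act H ha, hv]
    simp [sub_eq_add_neg]

theorem cof_siegel {a w : μ → F} (ha : β x a = 0) (hw : β x w = 0) :
    T.cof f (T.liftR (sGL (qf β) β x a)) w = -β a w • 1 :=
  Unip.cof_eq T H fun u => by
    rw [T.liftR_act, sGL_act T.SW H.singE ha, hw]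
    simp [sub_eq_add_neg]

/-- Scalar coefficients are those of a Siegel element. -/
theorem exists_siegel_cof (hκ : 0 < Fintype.card κ) {g : GL ι F}
    (hall : ∀ w ∈ perp2 β ⊤ x f,
      T.cof f g w ∈ Submodule.span F {(1 : Module.End F (κ → F))}) :
    ∃ a ∈ perp2 β ⊤ x f, ∀ w ∈ perp2 β ⊤ x f,
      T.cof f g w = T.cof f (T.liftR (sGL (qf β) β x a)) w := by
  obtain ⟨u₀, hu₀⟩ := T.exists_aniso_left hκ
  let lam : (μ → F) →ₗ[F] F :=
    -(α u₀ u₀)⁻¹ • ((α u₀) ∘ₗ (LinearMap.applyₗ u₀) ∘ₗ T.cof f g)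
  let a₀ := (β.toDual T.swap.nα').symm lam
  obtain ⟨a, ha, ea⟩ := exists_split T.SW H a₀
  obtain ⟨-, ha1, ha2⟩ := mem_perp2.1 ha
  refine ⟨a, ha, fun w hw => ?_⟩
  obtain ⟨c, hc⟩ := Submodule.mem_span_singleton.1 (hall w hw)
  obtain ⟨-, hw1, hw2⟩ := mem_perp2.1 hw
  have h1 : β a w = lam w := by
    have : β a₀ w = lam w := LinearMap.BilinForm.apply_toDual_symm_apply _ _
    rw [ea] at this
    simpa [hw1, hw2] using this
  rw [cof_siegel T H ha1 hw1, ← hc, h1]
  simp only [lam, LinearMap.smul_apply, LinearMap.comp_apply, LinearMap.applyₗ_apply_apply, ← hc,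
    Module.End.one_apply, map_smul, smul_eq_mul]
  congr 1
  field_simp


theorem Unip.ctr_x {g : GL ι F} (hgI : g ∈ isometryGroup F Q) (hg : Unip T x g) (u : κ → F) :
    T.ctr x (g.val *ᵥ τ u f) = u :=
  T.α_ext fun c => by
    rw [T.α_ctr, ← hg.1 c, T.space.B_act hgI, T.pair, H.pair' T.SW, mul_one]

theorem Unip.ctr_perp {g : GL ι F} (hgI : g ∈ isometryGroup F Q) (hg : Unip T x g) {w : μ → F}
    (hw : w ∈ perp2 β ⊤ x f) (u c : κ → F) :
    α (T.ctr w (g.val *ᵥ τ u f)) c = -α u (T.cof f g w c) := by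
  obtain ⟨-, hw1, hw2⟩ := mem_perp2.1 hw
  have h1 := T.space.B_act hgI (τ u f) (τ c w)
  rw [hg.act T H hw1, map_add, T.pair u f c w, hw2, mul_zero] at h1
  have h2 := T.space.B_act hgI (τ u f) (τ (T.cof f g w c) x)
  rw [hg.1, T.pair u f _ x, H.pair' T.SW, mul_one] at h2
  rw [T.α_ctr]
  linear_combination h1 - h2

/-- The coefficients are self-adjoint. -/
theorem Unip.self_adjoint {g : GL ι F} (hgI : g ∈ isometryGroup F Q) (hg : Unip T x g) {a : μ → F}
    (hcomm : g * T.liftR (sGL (qf β) β x a) = T.liftR (sGL (qf β) β x a) * g)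
    (ha : a ∈ perp2 β ⊤ x f) (u c : κ → F) :
    α (T.cof f g a u) c = α u (T.cof f g a c) := by
  obtain ⟨-, ha1, ha2⟩ := mem_perp2.1 ha
  have h1 := congrArg (fun h : GL ι F => h.val *ᵥ τ u f) hcomm
  simp only [mul_act] at h1
  rw [T.liftR_sGL_act H ha1 (g.val *ᵥ τ u f), Unip.ctr_x T H hgI hg, T.liftR_act,
    sGL_act T.SW H.singE ha1, H.pair, T.sβ a f, ha2] at h1
  simp only [one_smul, zero_add, mul_one, map_add, map_sub, map_smul, Matrix.mulVec_add,
    Matrix.mulVec_sub, Matrix.mulVec_smul, hg.1, hg.act T H ha1, LinearMap.add_apply,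
    LinearMap.smul_apply] at h1
  have h3 := congrArg (T.ctr f) h1
  simp only [map_add, map_sub, map_smul, T.ctr_tau, H.pair, T.sβ a f, ha2, one_smul, zero_smul] at h3
  have h4 : T.cof f g a u = -T.ctr a (g.val *ᵥ τ u f) := by
    linear_combination (norm := module) h3
  rw [h4, map_neg, LinearMap.neg_apply, Unip.ctr_perp T H hgI hg ha, neg_neg]

variable (hlose : Losing T L) (hL : Over T L)
include hlose hL

/-- The coefficient `K` at the vector `y` is realised. -/
def Real (L : Subgroup (GL ι F)) (x f y : μ → F) (K : Module.End F (κ → F)) : Prop :=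
  ∃ g ∈ L, Unip T x g ∧ ∀ w ∈ perp2 β ⊤ x f, T.cof f g w = β y w • K

theorem Real.add {y : μ → F} {K K' : Module.End F (κ → F)} (h : Real T L x f y K)
    (h' : Real T L x f y K') : Real T L x f y (K + K') := by
  obtain ⟨g, hg, hu, hc⟩ := h
  obtain ⟨g', hg', hu', hc'⟩ := h'
  exact ⟨g * g', mul_mem hg hg', hu.mul T hu', fun w hw => by
    rw [Unip.cof_mul T H hu hu' (mem_perp2.1 hw).2.1, hc w hw, hc' w hw, smul_add]⟩

theorem Real.zero (y : μ → F) : Real T L x f y 0 :=
  ⟨1, one_mem _, unip_one T x, fun w _ => by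
    rw [smul_zero]; exact Unip.cof_eq T H fun u => by simp⟩

theorem Real.neg {y : μ → F} {K : Module.End F (κ → F)} (h : Real T L x f y K) :
    Real T L x f y (-K) := by
  obtain ⟨g, hg, hu, hc⟩ := h
  exact ⟨g⁻¹, inv_mem hg, hu.inv T, fun w hw => by
    rw [Unip.cof_inv T H hu (mem_perp2.1 hw).2.1, hc w hw, smul_neg]⟩

theorem conj_root {g : GL ι F} (hg : g ∈ L) (hu : Unip T x g) {s : GL μ F}
    (hs : s ∈ Root (qf β) β (perp2 β ⊤ x f)) :
    T.liftR s * g * (T.liftR s)⁻¹ ∈ L ∧ Unip T x (T.liftR s * g * (T.liftR s)⁻¹) ∧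
      ∀ w ∈ perp2 β ⊤ x f,
        T.cof f (T.liftR s * g * (T.liftR s)⁻¹) (s.val *ᵥ w) = T.cof f g w := by
  have hsL := hL.root (root_mono le_top hs)
  have hsx : s.val *ᵥ x = x := (root_act T.SW hs x).2 fun y hy => by
    rw [T.sβ]; exact (mem_perp2.1 hy).2.1
  refine ⟨mul_mem (mul_mem hsL hg) (inv_mem hsL),
    Unip.conj T H (hL.le hsL) (fun u => ⟨u, by rw [T.liftR_act, hsx]⟩) hu,
    fun w hw => Unip.cof_eq T H fun u => ?_⟩
  rw [← T.liftR_act, mul_act, mul_act, inv_act, hu.act T H (mem_perp2.1 hw).2.1, Matrix.mulVec_add,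
    T.liftR_act, T.liftR_act, hsx]

theorem Real.move {y : μ → F} {K : Module.End F (κ → F)} (h : Real T L x f y K) {s : GL μ F}
    (hs : s ∈ Root (qf β) β (perp2 β ⊤ x f)) : Real T L x f (s.val *ᵥ y) K := by
  obtain ⟨g, hg, hu, hc⟩ := h
  obtain ⟨h1, h2, h3⟩ := conj_root T H hlose hL hg hu hs
  refine ⟨_, h1, h2, fun w hw => ?_⟩
  have hw' := root_mem_U T.SW (inv_mem hs) hw
  have h4 := h3 _ hw'
  rw [act_inv, hc _ hw'] at h4
  rw [h4, T.SW.B_act_left (root_le_iso T.SW _ hs)]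

theorem Real.smul_left {y : μ → F} {K : Module.End F (κ → F)} {c : F}
    (h : Real T L x f (c • y) K) : Real T L x f y (c • K) := by
  obtain ⟨g, hg, hu, hc⟩ := h
  exact ⟨g, hg, hu, fun w hw => by
    rw [hc w hw, map_smul, LinearMap.smul_apply, smul_eq_mul, smul_smul, mul_comm]⟩

/-- Isolation of one coefficient. -/
theorem real_coeff [Finite F] (hk : 5 ≤ Fintype.card μ) {g : GL ι F} (hg : g ∈ L) (hu : Unip T x g)
    {y y' : μ → F} (G : Hyp (qf β) β (perp2 β ⊤ x f) y y') (t : F) :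
    Real T L x f y (t • T.cof f g y) := by
  have hWn := H.ndeg T.SW T.SW.ndeg_top
  obtain ⟨d, hd, hQd⟩ := exists_nonsing T.SW (G.ndeg T.SW hWn) (fun h0 => by
    have h1 := G.le_finrank T.SW
    have h2 := H.le_finrank T.SW
    rw [h0, finrank_bot] at h1
    rw [finrank_top, finrank_fintype_fun_eq_card] at h2
    omega)
  obtain ⟨hdW, hyd, hy'd⟩ := mem_perp2.1 hd
  have hsingle : ∀ r : F, Real T L x f y ((-2 * (r * r * qf β d)) • T.cof f g y) := by
    intro r
    have hrd : β y (r • d) = 0 := by rw [map_smul, hyd, smul_zero]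
    have hrd' : β y (-(r • d)) = 0 := by rw [map_neg, hrd, neg_zero]
    have hs := sGL_mem_root G.memE (Submodule.smul_mem _ r hdW) G.singE hrd
    have hs' := sGL_mem_root G.memE (Submodule.neg_mem _ (Submodule.smul_mem _ r hdW)) G.singE hrd'
    obtain ⟨a1, a2, a3⟩ := conj_root T H hlose hL hg hu hs
    obtain ⟨b1, b2, b3⟩ := conj_root T H hlose hL hg hu hs'
    refine ⟨_, mul_mem (mul_mem a1 b1) (inv_mem (mul_mem hg hg)),
      (a2.mul T b2).mul T ((hu.mul T hu).inv T), fun w hw => ?_⟩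
    have hw1 := (mem_perp2.1 hw).2.1
    have e1 := a3 _ (root_mem_U T.SW hs' hw)
    have e2 := b3 _ (root_mem_U T.SW hs hw)
    rw [← mul_act, sGL_mul T.SW G.singE hrd hrd', add_neg_cancel, sGL_zero_right' T.SW G.singE,
      Units.val_one, Matrix.one_mulVec] at e1
    rw [← mul_act, sGL_mul T.SW G.singE hrd' hrd, neg_add_cancel, sGL_zero_right' T.SW G.singE,
      Units.val_one, Matrix.one_mulVec] at e2
    rw [Unip.cof_mul T H (a2.mul T b2) ((hu.mul T hu).inv T) hw1, Unip.cof_mul T H a2 b2 hw1,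
      Unip.cof_inv T H (hu.mul T hu) hw1, Unip.cof_mul T H hu hu hw1, e1, e2,
      sGL_act T.SW G.singE hrd', sGL_act T.SW G.singE hrd, T.SW.neg, T.SW.smul]
    simp only [map_add, map_sub, map_smul, map_neg, LinearMap.neg_apply]
    module
  have h2q : (-2 * qf β d) ≠ 0 := mul_ne_zero (neg_ne_zero.2 T.h2) hQd
  set c := t / (-2 * qf β d) with hc
  have e : t • T.cof f g y = (-2 * (((c + 1) / 2) * ((c + 1) / 2) * qf β d)) • T.cof f g y +
      -((-2 * (((c - 1) / 2) * ((c - 1) / 2) * qf β d)) • T.cof f g y) := by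
    have ec : -2 * (((c + 1) / 2) * ((c + 1) / 2) * qf β d)
        - -2 * (((c - 1) / 2) * ((c - 1) / 2) * qf β d) = t := by
      rw [show t = c * (-2 * qf β d) by rw [hc, div_mul_cancel₀ _ h2q]]
      field_simp [T.h2]
      ring
    conv_lhs => rw [← ec]
    module
  rw [e]
  exact Real.add T H hlose hL (hsingle _) (Real.neg T H hlose hL (hsingle _))
where
  sGL_zero_right' {ν : Type} [Fintype ν] [DecidableEq ν] {Q : (ν → F) → F}
      {B : LinearMap.BilinForm F (ν → F)} (C : Space Q B) {u : ν → F} (hu : Q u = 0) :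
      sGL Q B u 0 = 1 := SpTensor.sGL_zero_right C hu

/-- The unipotent radical consists of Siegel elements. -/
theorem unip_eq [Finite F] (hR : Ranks α μ) {g : GL ι F} (hgL : g ∈ L) (hg : Unip T x g) :
    ∃ a ∈ perp2 β ⊤ x f, g = T.liftR (sGL (qf β) β x a) := by
  have hWn := H.ndeg T.SW T.SW.ndeg_top
  have hW3 : 3 ≤ finrank F (perp2 β ⊤ x f) := by
    have := H.le_finrank T.SW
    rw [finrank_top, finrank_fintype_fun_eq_card] at this
    have := hR.hk
    omega
  have hscal : ∀ y ∈ perp2 β ⊤ x f, qf β y = 0 →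
      T.cof f g y ∈ Submodule.span F {(1 : Module.End F (κ → F))} := by
    intro y hy hQy
    rcases eq_or_ne y 0 with rfl | hy0
    · rw [map_zero]; exact Submodule.zero_mem _
    obtain ⟨y', G⟩ := exists_hyp T.SW hWn hy hy0 hQy
    obtain ⟨hyW, hy1, hy2⟩ := mem_perp2.1 hy
    obtain ⟨d, hd, hQd⟩ := exists_nonsing T.SW (G.ndeg T.SW hWn) (fun h0 => by
      have h1 := G.le_finrank T.SW
      rw [h0, finrank_bot] at h1
      omega)
    obtain ⟨hdW, hyd, hy'd⟩ := mem_perp2.1 hd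
    set e := (qf β d)⁻¹ • d with he
    have hye : β y e = 0 := by rw [he, map_smul, hyd, smul_zero]
    have htr : ∀ K : Module.End F (κ → F), Real T L x f y K →
        Real T L x f y' ((-qf β d) • K) := by
      intro K hK
      have h1 := Real.move T H hlose hL (Real.move T H hlose hL hK
        (sGL_mem_root G.memF hdW G.singF hy'd))
        (sGL_mem_root G.memE (Submodule.smul_mem _ _ hdW) G.singE hye)
      refine Real.smul_left T H hlose hL ?_
      convert h1 using 1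
      rw [sGL_act T.SW G.singF hy'd, sGL_act T.SW G.singE hye, G.pair' T.SW, T.sβ d y, hyd, he,
        T.SW.smul]
      simp only [map_add, map_sub, map_smul, LinearMap.add_apply, LinearMap.smul_apply, hyd,
        T.qf_zero.1 G.singE, G.pair, T.sβ d y, T.sβ d y', hy'd, T.SW.self]
      match_scalars
      all_goals generalize qf β d = a at hQd ⊢
      all_goals try simp only [smul_eq_mul]
      all_goals field_simp
      all_goals ring
    let 𝒦 : Submodule F (Module.End F (κ → F)) :=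
      { carrier := {K | ∀ t : F, Real T L x f y (t • K)}
        add_mem' := fun h h' t => by
          rw [smul_add]; exact Real.add T H hlose hL (h t) (h' t)
        zero_mem' := fun t => by rw [smul_zero]; exact Real.zero T H hlose hL y
        smul_mem' := fun c K h t => by rw [smul_smul]; exact h _ }
    have hK1 : ∀ {K}, K ∈ 𝒦 → Real T L x f y K := fun {K} h => by simpa using h 1
    have hK2 : ∀ {K}, K ∈ 𝒦 → Real T L x f y' K := fun {K} h => by
      have h3 := htr _ (h (-qf β d)⁻¹)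
      rwa [smul_smul, mul_inv_cancel₀ (neg_ne_zero.2 hQd), one_smul] at h3
    have hsa : ∀ X ∈ 𝒦, ∀ a b, α (X a) b = α a (X b) := by
      intro X hX a b
      obtain ⟨h, hhL, hh, hc⟩ := hK1 hX
      have h1 := Unip.self_adjoint T H (hL.le hhL) hh
        (Unip.comm T H hlose hL hhL (hL.right x y' H.singE (mem_perp2.1 G.memF).2.1) hh
          (unip_siegel T H (mem_perp2.1 G.memF).2.1)) G.memF a b
      rwa [hc _ G.memF, G.pair, one_smul] at h1
    have hcomm : ∀ X ∈ 𝒦, ∀ Y ∈ 𝒦, X * Y = Y * X := by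
      intro X hX Y hY
      obtain ⟨h, hhL, hh, hc⟩ := hK1 hX
      obtain ⟨h', hhL', hh', hc'⟩ := hK2 hY
      have hact : ∀ {h : GL ι F}, h ∈ L → Unip T x h → ∀ {y : μ → F} {K : Module.End F (κ → F)},
          y ∈ perp2 β ⊤ x f → (∀ a b, α (K a) b = α a (K b)) →
          (∀ w ∈ perp2 β ⊤ x f, T.cof f h w = β y w • K) → ∀ u, h.val *ᵥ τ u f =
            τ u f + τ (T.ctr f (h.val *ᵥ τ u f)) x - τ (K u) y := by
        intro h hhL hh y K hy hK hc u
        obtain ⟨-, h1, h2⟩ := mem_perp2.1 hy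
        refine T.ext3 H ?_ ?_ fun r hr => ?_
        · simp [Unip.ctr_x T H (hL.le hhL) hh, T.ctr_tau, H.pair' T.SW, T.qf_zero.1 H.singE,
            T.sβ y x, h1]
        · simp [T.ctr_tau, H.pair, T.qf_zero.1 H.singF, T.sβ y f, h2]
        · obtain ⟨-, r1, r2⟩ := mem_perp2.1 hr
          refine T.α_ext fun c => ?_
          rw [Unip.ctr_perp T H (hL.le hhL) hh hr, hc r hr]
          simp [T.ctr_tau, r1, r2, hK]
      refine LinearMap.ext fun u => ?_
      have h1 := congrArg (fun k : GL ι F => T.ctr f (k.val *ᵥ τ u f))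
        (Unip.comm T H hlose hL hhL' hhL hh' hh)
      simp only [mul_act] at h1
      rw [hact hhL hh hy (hsa X hX) hc u, hact hhL' hh' G.memF (hsa Y hY) hc' u,
        Matrix.mulVec_sub, Matrix.mulVec_sub, Matrix.mulVec_add, Matrix.mulVec_add, hh.1, hh'.1,
        hh.act T H (mem_perp2.1 G.memF).2.1, hh'.act T H hy1, hc _ G.memF, hc' _ hy, G.pair,
        G.pair' T.SW, one_smul, one_smul] at h1
      simp [T.ctr_tau, H.pair, T.sβ y f, hy2, T.sβ y' f, (mem_perp2.1 G.memF).2.2] at h1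
      rw [Module.End.mul_apply, Module.End.mul_apply]
      linear_combination (norm := module) h1
    have hone : (1 : Module.End F (κ → F)) ∈ 𝒦 := fun t => by
      have hty : β x (-(t • y)) = 0 := by rw [map_neg, map_smul, hy1, smul_zero, neg_zero]
      refine ⟨_, hL.right x _ H.singE hty, unip_siegel T H hty, fun w hw => ?_⟩
      rw [cof_siegel T H hty (mem_perp2.1 hw).2.1]
      simp [smul_smul, mul_comm]
    have hinv : Inv (qf α) α 𝒦 := by
      intro u a hu hua X hX t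
      obtain ⟨h, hhL, hh, hc⟩ := hX t
      have hp := hL.left u a hu hua
      set p := T.swap.liftR (sGL (qf α) α u a)
      refine ⟨p * h * p⁻¹, mul_mem (mul_mem hp hhL) (inv_mem hp),
        Unip.conj T H (hL.le hp) (fun c => ⟨_, T.liftL_act _ c x⟩) hh,
        fun w hw => Unip.cof_eq T H fun c => ?_⟩
      have hinvp : (p⁻¹ : GL ι F).val *ᵥ τ c w =
          τ (((sGL (qf α) α u a)⁻¹ : GL κ F).val *ᵥ c) w := by
        rw [← map_inv, T.liftL_act]
      rw [mul_act, mul_act, hinvp, hh.act T H (mem_perp2.1 hw).2.1, hc w hw, Matrix.mulVec_add,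
        T.liftL_act, T.liftL_act, act_inv, LinearMap.smul_apply, LinearMap.smul_apply,
        LinearMap.smul_apply, LinearMap.smul_apply, Matrix.mulVec_smul, Matrix.mulVec_smul, cj_apply]
    obtain ⟨c, hc⟩ := sym_scalar T.SU T.h2 hR.hm hR.hq hsa hcomm hone hinv _
      (fun t => real_coeff T H hlose hL hR.hk hgL hg G t)
    exact Submodule.mem_span_singleton.2 ⟨c, hc.symm⟩
  have hall : ∀ w ∈ perp2 β ⊤ x f,
      T.cof f g w ∈ Submodule.span F {(1 : Module.End F (κ → F))} := fun w hw => by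
    have hle : perp2 β ⊤ x f ≤
        (Submodule.span F {(1 : Module.End F (κ → F))}).comap (T.cof f g) :=
      (span_sing T.SW hWn hW3).trans (Submodule.span_le.2 fun r hr => hscal r hr.1 hr.2)
    exact hle hw
  obtain ⟨a, ha, he⟩ := exists_siegel_cof T H (by have := hR.hm; omega) hall
  exact ⟨a, ha, Unip.ext T H hlose hL hgL (hL.right x a H.singE (mem_perp2.1 ha).2.1) hg
    (unip_siegel T H (mem_perp2.1 ha).2.1) he⟩

end Cfsg.Lib.Linear.OOTensor
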